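import Mathlib
import Groth.Agent.SmoothFibreDim.Basic
import Groth.Agent.CurveCut.Basic
import Groth.Agent.S1570
import Groth.Agent.S8847
import Groth.Agent.FlatDescent.DivFlat.Basic
import Groth.Agent.GrpdBasic.Strata3

/-!
# Relative divisors on smooth curves

* over a field: a closed subscheme of a smooth curve is an effective Cartier divisor iff its support is discrete;
* over a base: effective Cartier + flat iff flat, locally of finite presentation and locally quasi-finite.
-/

set_option autoImplicit false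

universe u

open CategoryTheory Limits AlgebraicGeometry TopologicalSpace
open Groth.Agent Groth.Agent.DivCodimTwo Groth.FlatDescent

namespace Groth.Agent.CurveDiv

section Field

variable {k : Type u} [Field k] {Y : Scheme.{u}} (f : Y ⟶ Spec (CommRingCat.of k)) [SmoothOfRelativeDimension 1 f]

include f in
theorem stalk_dim_le_one (y : Y) : ringKrullDim (Y.presheaf.stalk y) ≤ 1 := by
  haveI : Smooth f := SmoothOfRelativeDimension.smooth 1 f
  obtain ⟨hh, a, n', -, ha, -⟩ := CohDual.DimFormula.exists_dim_eq f y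
  have h := (LocalDim.localDim_eq_stalk_add_closure f y).symm.trans (SmoothFibreDim.localDim_eq f 1 y)
  rw [ha] at h
  refine le_trans ?_ h.le
  exact le_add_of_nonneg_right (by exact_mod_cast Nat.zero_le a)

include f in
theorem isPrincipalIdealRing_stalk (y : Y) : IsPrincipalIdealRing (Y.presheaf.stalk y) := by
  haveI : Smooth f := SmoothOfRelativeDimension.smooth 1 f
  haveI := CohDual.SmoothEquidim.isRegularLocalRing_stalk f y
  haveI := ConnDiv.isDomain_stalk_of_smooth f y
  have h := (IsRegularLocalRing.iff_finrank_cotangentSpace _).mp ‹IsRegularLocalRing (Y.presheaf.stalk y)›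
  have h' : Module.finrank (IsLocalRing.ResidueField (Y.presheaf.stalk y))
      (IsLocalRing.CotangentSpace (Y.presheaf.stalk y)) ≤ 1 := by
    have := h.le.trans (stalk_dim_le_one f y)
    exact_mod_cast this
  exact ((tfae_of_isNoetherianRing_of_isLocalRing_of_isDomain (Y.presheaf.stalk y)).out 5 0).mp h'

include f in
/-- A point with a nonzero element in its maximal ideal is closed. -/
theorem eq_of_specializes {y w : Y} (hyw : y ⤳ w) {t : Y.presheaf.stalk y}
    (ht : t ∈ IsLocalRing.maximalIdeal (Y.presheaf.stalk y)) (ht0 : t ≠ 0) : y = w := by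
  haveI : Smooth f := SmoothOfRelativeDimension.smooth 1 f
  haveI := ConnDiv.isDomain_stalk_of_smooth f y
  haveI := ConnDiv.isDomain_stalk_of_smooth f w
  by_contra hne
  let g : Y := Y.fromSpecStalk y (⟨⊥, Ideal.isPrime_bot⟩ : PrimeSpectrum (Y.presheaf.stalk y))
  have hgy : g ⤳ y := by
    have h := ((PrimeSpectrum.le_iff_specializes (⟨⊥, Ideal.isPrime_bot⟩ : PrimeSpectrum (Y.presheaf.stalk y))
      (IsLocalRing.closedPoint (Y.presheaf.stalk y))).1 bot_le).map (Y.fromSpecStalk y).continuous
    rwa [Scheme.fromSpecStalk_closedPoint] at h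
  have hgne : g ≠ y := fun e => by
    have h := (Y.fromSpecStalk y).isEmbedding.injective (e.trans Scheme.fromSpecStalk_closedPoint.symm)
    exact ht0 ((Submodule.mem_bot _).mp ((congrArg PrimeSpectrum.asIdeal h).ge ht))
  obtain ⟨P₁, hP₁⟩ : g ∈ Set.range (Y.fromSpecStalk w) := by
    rw [Scheme.range_fromSpecStalk]; exact hgy.trans hyw
  obtain ⟨P₂, hP₂⟩ : y ∈ Set.range (Y.fromSpecStalk w) := by
    rw [Scheme.range_fromSpecStalk]; exact hyw
  have h12 : P₁.asIdeal ≤ P₂.asIdeal := (PrimeSpectrum.le_iff_specializes P₁ P₂).2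
    ((Y.fromSpecStalk w).isEmbedding.toIsInducing.specializes_iff.mp (by rw [hP₁, hP₂]; exact hgy))
  haveI : Ring.KrullDimLE 1 (Y.presheaf.stalk w) := by
    rw [Ring.krullDimLE_iff]; exact_mod_cast stalk_dim_le_one f w
  have hP2 : P₂.asIdeal ≠ ⊥ := fun e => by
    refine hgne ?_
    rw [← hP₁, ← hP₂]
    exact congrArg _ (PrimeSpectrum.ext (le_antisymm h12 (e.le.trans bot_le)))
  haveI := P₂.isPrime.isMaximal_of_ne_bot hP2
  refine hne ?_
  rw [← hP₂, show P₂ = IsLocalRing.closedPoint (Y.presheaf.stalk w) from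
    PrimeSpectrum.ext (IsLocalRing.eq_maximalIdeal inferInstance), Scheme.fromSpecStalk_closedPoint]

include f in
/-- An ideal sheaf with discrete support is effective Cartier. -/
theorem effCartier_of_discrete (J : Y.IdealSheafData) (h : _root_.IsDiscrete (J.support : Set Y)) :
    BlowUp.IsEffCartierIdeal J := by
  haveI : Smooth f := SmoothOfRelativeDimension.smooth 1 f
  haveI := LocallyOfFiniteType.isLocallyNoetherian f
  refine S1570.result Y J fun y hy U hyU => ?_
  haveI := ConnDiv.isDomain_stalk_of_smooth f y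
  haveI := isPrincipalIdealRing_stalk f y
  obtain ⟨d, hd⟩ := IsPrincipalIdealRing.principal (gI J y)
  refine ⟨d, mem_nonZeroDivisors_iff_ne_zero.mpr fun hd0 => ?_, (gI_eq J U hyU).symm.trans hd⟩
  obtain ⟨b, hyb, hb⟩ := exists_affine_ideal_le J ⊥ U hyU (by
    rw [hd, hd0]; simp)
  have hsub : (Y.basicOpen b : Set Y) ⊆ J.support := fun q hq => by
    have hqU := Y.basicOpen_le b hq
    refine (mem_support_iff_le J U hqU).mpr fun c hc => ?_
    have h0 := hb c hc
    rw [Scheme.IdealSheafData.ideal_bot, Pi.bot_apply, Submodule.mem_bot] at h0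
    exact ((inferInstance : (U.2.primeIdealOf ⟨q, hqU⟩).asIdeal.IsPrime).mem_or_mem
      (h0 ▸ zero_mem _)).resolve_left ((InvExtend.mem_basicOpen_iff U.2 hqU b).mp hq)
  haveI := h.to_subtype
  obtain ⟨O, hO, hOy⟩ := isOpen_induced_iff.mp (isOpen_discrete ({⟨y, hy⟩} : Set (J.support : Set Y)))
  have hO' : IsOpen ({y} : Set Y) := by
    have : O ∩ (Y.basicOpen b : Set Y) = {y} := by
      refine Set.eq_singleton_iff_unique_mem.mpr ⟨⟨?_, hyb⟩, fun q hq => ?_⟩
      · have h := hOy.ge (Set.mem_singleton (⟨y, hy⟩ : (J.support : Set Y))); exact h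
      · exact congrArg Subtype.val (hOy.le (show (⟨q, hsub hq.2⟩ : (J.support : Set Y)) ∈ Subtype.val ⁻¹' O from hq.1))
    rw [← this]
    exact hO.inter (Y.basicOpen b).2
  haveI : DiscreteTopology ↥({y} : Set Y) := inferInstance
  have h1 : FlatMor.localDim Y y ≤ 0 :=
    (iInf_le (fun W : {W : TopologicalSpace.Opens Y // y ∈ W} => topologicalKrullDim (W.1 : Set Y))
      ⟨⟨{y}, hO'⟩, Set.mem_singleton y⟩).trans (topologicalKrullDim_zero_of_discreteTopology _)
  rw [SmoothFibreDim.localDim_eq f 1 y] at h1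
  exact absurd h1 (by exact_mod_cast not_le.mpr zero_lt_one)

end Field

theorem smooth_fibre {X S : Scheme.{u}} (f : X ⟶ S) [SmoothOfRelativeDimension 1 f] (s : S) :
    SmoothOfRelativeDimension 1 (f.fiberToSpecResidueField s) := by
  haveI : MorphismProperty.IsStableUnderBaseChange (@SmoothOfRelativeDimension.{u} 1) :=
    smoothOfRelativeDimension_isStableUnderBaseChange 1
  exact (smoothOfRelativeDimension_isStableUnderBaseChange 1).of_isPullback
    (IsPullback.of_hasPullback f (S.fromSpecResidueField s)) ‹SmoothOfRelativeDimension 1 f›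

/-- Flat, finitely presented and quasi-finite gives a relative divisor. -/
theorem effCartier_of_lqf {X S : Scheme.{u}} (f : X ⟶ S) [SmoothOfRelativeDimension 1 f] (I : X.IdealSheafData)
    [Flat (I.subschemeι ≫ f)] [LocallyQuasiFinite (I.subschemeι ≫ f)]
    [LocallyOfFinitePresentation (I.subschemeι ≫ f)] : BlowUp.IsEffCartierIdeal I := by
  haveI : Smooth f := SmoothOfRelativeDimension.smooth 1 f
  refine S8847.result f I fun s => ?_
  refine @effCartier_of_discrete (S.residueField s) _ (f.fiber s) (f.fiberToSpecResidueField s) (smooth_fibre f s) _ ?_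
  have h := ((I.subschemeι ≫ f).isDiscrete_preimage_singleton s).image I.subschemeι.isEmbedding.toIsInducing
  have h' := h.preimage (f.fiberι s).continuous.continuousOn (f.fiberι s).isEmbedding.injective
  refine h'.mono fun z hz => ?_
  rw [Scheme.IdealSheafData.support_comap] at hz
  have hz' : f.fiberι s z ∈ Set.range I.subschemeι := by
    rw [Scheme.IdealSheafData.range_subschemeι]; exact hz
  obtain ⟨w, hw⟩ := hz'
  refine ⟨w, ?_, hw⟩
  have hfs : f.fiberι s z ∈ f ⁻¹' {s} := f.range_fiberι s ▸ ⟨z, rfl⟩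
  rw [Set.mem_preimage, Scheme.Hom.comp_apply, hw]
  exact hfs

/-- The ideal of an effective Cartier divisor is locally finitely generated. -/
theorem lfp_of_effCartier {X : Scheme.{u}} {I : X.IdealSheafData} (h : BlowUp.IsEffCartierIdeal I) :
    LocallyOfFinitePresentation I.subschemeι := by
  choose U hxU a _ hI using h
  exact GrpdBasic.lfp_subschemeι I U (Opens.ext (Set.eq_univ_of_forall fun x => by
    simpa using ⟨x, hxU x⟩)) fun x => ⟨{a x}, by rw [Finset.coe_singleton, hI x]⟩

/-- A local generator of a flat divisor does not vanish on the fibre. -/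
theorem stalkMap_germ_ne_zero {X S : Scheme.{u}} (f : X ⟶ S) (I : X.IdealSheafData) [Flat (I.subschemeι ≫ f)]
    {V : S.Opens} (hV : IsAffineOpen V) (U : X.affineOpens) (e : U.1 ≤ f ⁻¹ᵁ V) {a : Γ(X, U.1)}
    (ha : a ∈ nonZeroDivisors Γ(X, U.1)) (hI : I.ideal U = Ideal.span {a}) {x : X} (hx : x ∈ U.1) :
    X.presheaf.germ U.1 x hx a ∉ maxExt f x := by
  intro hmem
  letI : Algebra Γ(S, V) Γ(X, U.1) := (f.appLE V U.1 e).hom.toAlgebra
  haveI : Module.Flat Γ(S, V) (Γ(X, U.1) ⧸ I.ideal U) := DivFlat.flat_quot f I hV U e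
  letI := TopCat.Presheaf.algebra_section_stalk X.presheaf (⟨x, hx⟩ : U.1)
  haveI := U.2.isLocalization_stalk ⟨x, hx⟩
  let T := X.presheaf.stalk x
  letI : Algebra Γ(S, V) T := ((X.presheaf.germ U.1 x hx).hom.comp (f.appLE V U.1 e).hom).toAlgebra
  haveI : IsScalarTower Γ(S, V) Γ(X, U.1) T := IsScalarTower.of_algebraMap_eq fun _ => rfl
  haveI : Module.Flat Γ(X, U.1) T := IsLocalization.flat T (U.2.primeIdealOf ⟨x, hx⟩).asIdeal.primeCompl
  let J : Ideal T := (I.ideal U).map (algebraMap Γ(X, U.1) T)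
  haveI : Module.Flat Γ(S, V) (TensorProduct Γ(X, U.1) T (Γ(X, U.1) ⧸ I.ideal U)) := SheafBC.flat_tensor_of_flat
  have hC : Module.Flat Γ(S, V) (T ⧸ LinearMap.range J.subtype) := by
    rw [Submodule.range_subtype]
    exact Module.Flat.of_linearEquiv
      (((Algebra.TensorProduct.quotIdealMapEquivTensorQuot T (I.ideal U)).toLinearEquiv).restrictScalars Γ(S, V))
  let p := (IsLocalRing.maximalIdeal T).comap (algebraMap Γ(S, V) T)
  have hp : p.map (algebraMap Γ(S, V) T) = maxExt f x := by
    letI := TopCat.Presheaf.algebra_section_stalk S.presheaf (⟨f x, e hx⟩ : V)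
    haveI := hV.isLocalization_stalk ⟨f x, e hx⟩
    have hc : algebraMap Γ(S, V) T =
        (f.stalkMap x).hom.comp (algebraMap Γ(S, V) (S.presheaf.stalk (f x))) :=
      RingHom.ext fun r => Div38.germ_appLE e hx r
    show ((IsLocalRing.maximalIdeal T).comap (algebraMap Γ(S, V) T)).map (algebraMap Γ(S, V) T) = _
    rw [hc, ← Ideal.comap_comap, IsLocalRing.maximalIdeal_comap, ← Ideal.map_map,
      IsLocalization.map_under (hV.primeIdealOf ⟨f x, e hx⟩).asIdeal.primeCompl]
    rfl
  let t : T := algebraMap Γ(X, U.1) T a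
  have htJ : t ∈ J := Ideal.mem_map_of_mem _ (hI ▸ Ideal.mem_span_singleton_self a)
  have h := LocalFP.mem_smul_of_flat_coker J.subtype J.injective_subtype hC p ⟨t, htJ⟩
    (by rw [hp, Ideal.smul_eq_mul, Ideal.mul_top]; exact hmem)
  have h' := Submodule.mem_map_of_mem (f := J.subtype) h
  rw [Submodule.map_smul'', Submodule.map_top, Submodule.range_subtype, hp] at h'
  have hJ : J = Ideal.span {t} := by
    show (I.ideal U).map (algebraMap Γ(X, U.1) T) = _
    rw [hI, Ideal.map_span, Set.image_singleton]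
  replace h' : t ∈ maxExt f x * Ideal.span {t} := by
    rw [← hJ, ← Ideal.smul_eq_mul]; exact h'
  obtain ⟨c, hc, hct⟩ := Ideal.mem_mul_span_singleton.mp h'
  have hc' : c ∈ IsLocalRing.maximalIdeal T :=
    (Ideal.map_le_iff_le_comap.mpr le_rfl : p.map (algebraMap Γ(S, V) T) ≤ _) (hp.ge hc)
  have hu : IsUnit (1 - c) := IsLocalRing.isUnit_one_sub_self_of_mem_nonunits c hc'
  have h0 : t = 0 := hu.mul_right_eq_zero.mp (by rw [sub_mul, one_mul]; exact sub_eq_zero.mpr hct.symm)
  have hnzd : t ∈ nonZeroDivisors T := IsLocalization.map_nonZeroDivisors_le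
    (U.2.primeIdealOf ⟨x, hx⟩).asIdeal.primeCompl _ (Submonoid.mem_map_of_mem _ ha)
  exact zero_notMem_nonZeroDivisors (h0 ▸ hnzd)

/-- A flat effective Cartier divisor on a relative curve is quasi-finite. -/
theorem lqf_of_effCartier {X S : Scheme.{u}} (f : X ⟶ S) [SmoothOfRelativeDimension 1 f] (I : X.IdealSheafData)
    (h : BlowUp.IsEffCartierIdeal I) [Flat (I.subschemeι ≫ f)] : LocallyQuasiFinite (I.subschemeι ≫ f) := by
  haveI : Smooth f := SmoothOfRelativeDimension.smooth 1 f
  haveI := lfp_of_effCartier h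
  haveI : LocallyOfFiniteType (I.subschemeι ≫ f) := inferInstance
  rw [locallyQuasiFinite_iff_isDiscrete_preimage_singleton]
  intro s
  let g := I.subschemeι ≫ f
  haveI : LocallyOfFiniteType (g.fiberToSpecResidueField s) := MorphismProperty.pullback_snd _ _ inferInstance
  haveI := LocallyOfFiniteType.isLocallyNoetherian (g.fiberToSpecResidueField s)
  have hns : ∀ a b : g.fiber s, a ⤳ b → a = b := by
    intro a b hab
    apply (g.fiberι s).isEmbedding.injective
    apply I.subschemeι.isEmbedding.injective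
    have hab' := (hab.map (g.fiberι s).continuous).map I.subschemeι.continuous
    have hmem : ∀ c : g.fiber s, I.subschemeι (g.fiberι s c) ∈ Set.range (f.fiberι s) := fun c => by
      rw [Scheme.Hom.range_fiberι, Set.mem_preimage, ← Scheme.Hom.comp_apply]
      exact (g.range_fiberι s).le ⟨c, rfl⟩
    obtain ⟨a', ha'⟩ := hmem a
    obtain ⟨b', hb'⟩ := hmem b
    rw [← ha', ← hb'] at hab' ⊢
    have hab'' : a' ⤳ b' := (f.fiberι s).isEmbedding.toIsInducing.specializes_iff.mp hab'
    congr 1
    obtain ⟨U, hxU, hle, r, hr, hI⟩ : ∃ U : X.affineOpens, f.fiberι s a' ∈ U.1 ∧ (∃ V : S.Opens, IsAffineOpen V ∧ U.1 ≤ f ⁻¹ᵁ V) ∧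
        ∃ r, r ∈ nonZeroDivisors Γ(X, U.1) ∧ I.ideal U = Ideal.span {r} := by
      obtain ⟨V, hV, hxV, -⟩ := exists_isAffineOpen_mem_and_subset (U := (⊤ : S.Opens)) (x := f (f.fiberι s a')) trivial
      obtain ⟨U, hxU, hUle, r⟩ := DivFlat.exists_chart_le h (O := f ⁻¹ᵁ V) hxV
      exact ⟨U, hxU, ⟨V, hV, hUle⟩, r⟩
    obtain ⟨V, hV, e⟩ := hle
    refine @eq_of_specializes (S.residueField s) _ (f.fiber s) (f.fiberToSpecResidueField s) (smooth_fibre f s) a' b' hab''
      (((f.fiberι s).stalkMap a').hom (X.presheaf.germ U.1 _ hxU r)) ?_ ?_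
    · rw [IsLocalRing.mem_maximalIdeal, map_mem_nonunits_iff]
      intro hu
      have hsupp : f.fiberι s a' ∈ I.support := by
        rw [ha']
        exact (Scheme.IdealSheafData.range_subschemeι I).le ⟨_, rfl⟩
      refine (mt (gI_eq_top_iff I _).mp (fun h => h hsupp)) ?_
      rw [gI_eq I U hxU, hI, Ideal.map_span, Set.image_singleton]
      exact Ideal.span_singleton_eq_top.mpr hu
    · intro h0
      refine stalkMap_germ_ne_zero f I hV U e hr hI hxU ?_
      rw [← ker_stalkMap_fiberι f s a']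
      exact h0
  haveI : DiscreteTopology (g.fiber s) := discreteTopology_iff_isOpen_singleton.mpr fun p =>
    CurveCut.isOpen_singleton_of_isolated p (fun q hq => hns q p hq) (fun q hq => (hns p q hq).symm)
  have h1 := (isDiscrete_univ_iff.mpr ‹DiscreteTopology (g.fiber s)›).image (g.fiberι s).isEmbedding.toIsInducing
  rwa [Set.image_univ, Scheme.Hom.range_fiberι] at h1

end Groth.Agent.CurveDiv
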