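import Mathlib
import Groth.Agent.CurveDiv.Basic
import Groth.Agent.FinLocFree.Push
import Groth.Agent.RegEmbed.Scheme
import Groth.Agent.ProperCover.Basic
import Groth.Agent.S1702

/-!
# The sum of two divisors finite over the base: finiteness and additivity of the degree
-/

set_option autoImplicit false

universe u

open CategoryTheory Limits AlgebraicGeometry TopologicalSpace
open Groth.Agent Groth.Agent.DivCodimTwo Groth.FlatDescent

namespace Groth.Agent.CurveDiv

section Algebra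

variable {A B : Type u} [CommRing A] [CommRing B] [Algebra A B]

theorem exists_notMem_of_forall_over [Module.Finite A B] {p : Ideal A} [p.IsPrime] (L : Ideal B)
    (h : ∀ q : Ideal B, q.IsPrime → q.comap (algebraMap A B) = p → ¬ L ≤ q) :
    ∃ s : A, s ∉ p ∧ algebraMap A B s ∈ L := by
  haveI : Algebra.IsIntegral A B := Algebra.IsIntegral.of_finite A B
  by_contra hne
  push Not at hne
  obtain ⟨Q, hQ, hQp, hQc⟩ := Ideal.exists_ideal_over_prime_of_isIntegral p L
    (fun s hs => by_contra fun hsp => hne s hsp hs)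
  exact h Q hQp hQc hQ

/-- A simultaneous local generator at the finitely many primes over `p`. -/
theorem exists_common_gen [Module.Finite A B] {p : Ideal A} [p.IsPrime] (K K₂ : Ideal B)
    (hloc : ∀ q : Ideal B, q.IsPrime → q.comap (algebraMap A B) = p → ∃ a ∈ K,
      (∀ k ∈ K, ∃ y, y ∉ q ∧ y * k ∈ Ideal.span {a}) ∧ (∀ x, x * a = 0 → ∃ y, y ∉ q ∧ y * x ∈ K₂)) :
    ∃ a ∈ K, ∀ q : Ideal B, q.IsPrime → q.comap (algebraMap A B) = p →
      (∀ k ∈ K, ∃ y, y ∉ q ∧ y * k ∈ Ideal.span {a}) ∧ (∀ x, x * a = 0 → ∃ y, y ∉ q ∧ y * x ∈ K₂) := by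
  classical
  let T := {q : Ideal B // q.IsPrime ∧ q.comap (algebraMap A B) = p}
  haveI : Finite T := by
    have hfin := Algebra.QuasiFinite.finite_comap_preimage_singleton (R := A) (S := B) ⟨p, inferInstance⟩
    haveI := hfin.to_subtype
    exact Finite.of_injective
      (fun q : T => (⟨⟨q.1, q.2.1⟩, PrimeSpectrum.ext q.2.2⟩ :
        PrimeSpectrum.comap (algebraMap A B) ⁻¹' {(⟨p, inferInstance⟩ : PrimeSpectrum A)}))
      (fun q q' h => Subtype.ext (congrArg (fun z => (Subtype.val z).asIdeal) h))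
  letI := Fintype.ofFinite T
  choose a haK hgen hann using fun q : T => hloc q.1 q.2.1 q.2.2
  have hd : ∀ q q' : T, q ≠ q' → ∃ d, d ∈ q'.1 ∧ d ∉ q.1 := fun q q' hne => by
    haveI := q.2.1
    haveI := q'.2.1
    refine SetLike.not_le_iff_exists.mp fun hle => hne (Subtype.ext ?_)
    exact (Algebra.QuasiFinite.eq_of_le_of_under_eq (R := A) q'.1 q.1 hle
      (q'.2.2.trans q.2.2.symm)).symm
  choose d hd1 hd2 using hd
  let e : T → B := fun q => ∏ q', if h : q ≠ q' then d q q' h else 1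
  have he1 : ∀ q q' : T, q ≠ q' → e q ∈ q'.1 := fun q q' h =>
    Ideal.mem_of_dvd _ (Finset.dvd_prod_of_mem _ (Finset.mem_univ q')) (by rw [dif_pos h]; exact hd1 q q' h)
  have he2 : ∀ q : T, e q ∉ q.1 := fun q hmem => by
    haveI := q.2.1
    obtain ⟨q', -, hq'⟩ := (Ideal.IsPrime.prod_mem_iff (hp := q.2.1)).mp hmem
    by_cases h : q ≠ q'
    · rw [dif_pos h] at hq'; exact hd2 q q' h hq'
    · rw [dif_neg h] at hq'; exact q.2.1.ne_top ((Ideal.eq_top_iff_one _).mpr hq')
  let g := ∑ q, e q * a q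
  refine ⟨g, sum_mem fun q _ => Ideal.mul_mem_left _ _ (haK q), fun q₀ hq₀ hq₀' => ?_⟩
  let q : T := ⟨q₀, hq₀, hq₀'⟩
  -- coefficients of all `a q'` in terms of `a q` near `q`
  choose y hy hyc using fun q' : T => hgen q (a q') (haK q')
  have hyc' : ∀ q', ∃ c, c * a q = y q' * a q' := fun q' => Ideal.mem_span_singleton'.mp (hyc q')
  choose c hc using hyc'
  let Y := ∏ q', y q'
  have hY : Y ∉ q.1 := fun hmem => by
    obtain ⟨q', -, hq'⟩ := (Ideal.IsPrime.prod_mem_iff (hp := q.2.1)).mp hmem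
    exact hy q' hq'
  choose Y' hY' using fun q' : T => Finset.dvd_prod_of_mem y (Finset.mem_univ q')
  let v := Y * e q + ∑ q' ∈ Finset.univ.erase q, e q' * (Y' q' * c q')
  have hv : v ∉ q.1 := fun hmem => by
    have h2 : (∑ q' ∈ Finset.univ.erase q, e q' * (Y' q' * c q')) ∈ q.1 :=
      sum_mem fun q' hq' => Ideal.mul_mem_right _ _ (he1 q' q (Finset.ne_of_mem_erase hq'))
    exact (q.2.1.mem_or_mem ((Ideal.add_mem_iff_left _ h2).mp hmem)).elim hY (he2 q)
  have hvg : v * a q = Y * g := by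
    show v * a q = Y * ∑ q', e q' * a q'
    rw [← Finset.add_sum_erase _ _ (Finset.mem_univ q), mul_add, Finset.mul_sum, add_mul, Finset.sum_mul]
    refine congrArg₂ (· + ·) (by ring) (Finset.sum_congr rfl fun q' _ => ?_)
    rw [show Y = y q' * Y' q' from hY' q']
    linear_combination (e q' * Y' q') * hc q'
  refine ⟨fun k hk => ?_, fun x hx => ?_⟩
  · obtain ⟨z, hz, hzk⟩ := hgen q k hk
    obtain ⟨b, hb⟩ := Ideal.mem_span_singleton'.mp hzk
    refine ⟨v * z, fun h => (q.2.1.mem_or_mem h).elim hv hz, Ideal.mem_span_singleton'.mpr ⟨b * Y, ?_⟩⟩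
    linear_combination v * hb - b * hvg
  · obtain ⟨z, hz, hzx⟩ := hann q (v * x) (by linear_combination x * hvg + Y * hx)
    exact ⟨z * v, fun h => (q.2.1.mem_or_mem h).elim hz hv, by rwa [mul_assoc]⟩

theorem rankAtStalk_add {B₁ B₂ : Type u} [CommRing B₁] [CommRing B₂] [Algebra A B₁] [Algebra A B₂]
    [Module.Finite A B] [Module.Flat A B] [Module.Finite A B₁] [Module.Projective A B₁]
    (π₁ : B →ₐ[A] B₁) (π₂ : B →ₐ[A] B₂) (h₁ : Function.Surjective π₁) (h₂ : Function.Surjective π₂)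
    (hmul : ∀ x, π₂ x = 0 → ∀ k, π₁ k = 0 → x * k = 0) (p : PrimeSpectrum A)
    (hloc : ∀ q : Ideal B, q.IsPrime → q.comap (algebraMap A B) = p.asIdeal → ∃ a ∈ RingHom.ker π₁,
      (∀ k ∈ RingHom.ker π₁, ∃ y, y ∉ q ∧ y * k ∈ Ideal.span {a}) ∧
        (∀ x, x * a = 0 → ∃ y, y ∉ q ∧ y * x ∈ RingHom.ker π₂)) :
    Module.rankAtStalk (R := A) B p = Module.rankAtStalk (R := A) B₁ p + Module.rankAtStalk (R := A) B₂ p := by
  let K : Submodule A B := LinearMap.ker π₁.toLinearMap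
  obtain ⟨s, hs⟩ := Module.projective_lifting_property π₁.toLinearMap LinearMap.id h₁
  obtain ⟨e⟩ : Nonempty (B ≃ₗ[A] K × B₁) := ⟨(Function.Exact.splitSurjectiveEquiv (R := A)
    (f := K.subtype) (g := π₁.toLinearMap) (LinearMap.exact_subtype_ker_map π₁.toLinearMap)
    K.injective_subtype ⟨s, hs⟩).1⟩
  haveI : Module.Finite A K := Module.Finite.of_surjective ((LinearMap.fst A K B₁).comp e.toLinearMap)
    ((LinearMap.fst_surjective (R := A) (M := K) (M₂ := B₁)).comp e.surjective)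
  haveI : Module.Flat A (K × B₁) := Module.Flat.of_linearEquiv e.symm
  haveI : Module.Flat A K := Module.Flat.of_retract (LinearMap.inl A K B₁) (LinearMap.fst A K B₁) (by ext x; rfl)
  obtain ⟨a, haK, ha⟩ := exists_common_gen (p := p.asIdeal) (RingHom.ker π₁) (RingHom.ker π₂) hloc
  let μ₀ : B →ₗ[A] K := ((LinearMap.mulRight A a).codRestrict K fun x => by
    show π₁ (x * a) = 0
    rw [map_mul, (RingHom.mem_ker).mp haK, mul_zero])
  let μ : B₂ →ₗ[A] K :=
    ((LinearMap.ker π₂.toLinearMap).liftQ μ₀ fun x hx => Subtype.ext (hmul x hx a haK)).comp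
      (π₂.toLinearMap.quotKerEquivOfSurjective h₂).symm.toLinearMap
  have hμ : ∀ x : B, (μ (π₂ x) : B) = x * a := fun x => by
    have h : (π₂.toLinearMap.quotKerEquivOfSurjective h₂).symm (π₂ x) = Submodule.Quotient.mk x :=
      (LinearEquiv.symm_apply_eq _).mpr rfl
    simp only [μ, LinearMap.comp_apply, LinearEquiv.coe_coe]
    rw [h]; rfl
  have hbij : Function.Bijective (LocalizedModule.map p.asIdeal.primeCompl μ) := by
    refine ⟨(injective_iff_map_eq_zero _).mpr fun z hz => ?_, fun z => ?_⟩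
    · induction z using LocalizedModule.induction_on with
      | _ x t =>
        obtain ⟨x, rfl⟩ := h₂ x
        rw [LocalizedModule.map_mk, ← LocalizedModule.zero_mk t, LocalizedModule.mk_eq] at hz
        obtain ⟨u, hu⟩ := hz
        simp only [smul_zero] at hu
        have hu' : algebraMap A B (u * t) * x * a = 0 := by
          have h := congrArg Subtype.val hu
          simp only [Submonoid.smul_def, smul_smul, SetLike.val_smul, ZeroMemClass.coe_zero, hμ] at h
          rwa [mul_assoc, ← Algebra.smul_def]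
        obtain ⟨w, hwp, hw⟩ := exists_notMem_of_forall_over (p := p.asIdeal)
          (Submodule.comap (LinearMap.lsmul B B (algebraMap A B (u * t) * x)) (RingHom.ker π₂)) (fun q hq hqc hle => by
            obtain ⟨y, hy, hyx⟩ := (ha q hq hqc).2 _ hu'
            refine hy (hle ?_)
            show algebraMap A B (u * t) * x * y ∈ RingHom.ker π₂
            rwa [mul_comm])
        rw [← LocalizedModule.zero_mk t, LocalizedModule.mk_eq]
        refine ⟨⟨w, hwp⟩ * u, ?_⟩
        simp only [smul_zero, Submonoid.smul_def, Submonoid.coe_mul, smul_smul]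
        rw [Algebra.smul_def, ← AlgHom.commutes π₂, ← map_mul]
        refine (congrArg π₂ ?_).trans (RingHom.mem_ker.mp hw)
        show _ = algebraMap A B (u * t) * x * algebraMap A B w
        simp only [map_mul]; ring
    · induction z using LocalizedModule.induction_on with
      | _ k t =>
        obtain ⟨w, hwp, hw⟩ := exists_notMem_of_forall_over (p := p.asIdeal)
          (Submodule.comap (LinearMap.lsmul B B (k : B)) (Ideal.span {a})) (fun q hq hqc hle => by
            obtain ⟨y, hy, hyk⟩ := (ha q hq hqc).1 k.1 (RingHom.mem_ker.mpr k.2)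
            refine hy (hle ?_)
            show (k : B) * y ∈ Ideal.span {a}
            rwa [mul_comm])
        obtain ⟨b, hb⟩ := Ideal.mem_span_singleton'.mp (show (k : B) * algebraMap A B w ∈ Ideal.span {a} from hw)
        refine ⟨LocalizedModule.mk (π₂ b) (⟨w, hwp⟩ * t), ?_⟩
        rw [LocalizedModule.map_mk, LocalizedModule.mk_eq]
        refine ⟨1, Subtype.ext ?_⟩
        simp only [one_smul, Submonoid.smul_def, Submonoid.coe_mul, SetLike.val_smul, hμ, hb, Algebra.smul_def, map_mul]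
        ring
  have heq : Module.rankAtStalk (R := A) B₂ p = Module.rankAtStalk (R := A) K p :=
    (LinearEquiv.ofBijective _ hbij).finrank_eq
  rw [Module.rankAtStalk_eq_of_equiv e, Module.rankAtStalk_prod, Pi.add_apply, heq, add_comm]

end Algebra

/-- The ideal of the smaller subscheme inside the bigger one. -/
theorem ker_inclusion {X : Scheme.{u}} {I J : X.IdealSheafData} (h : I ≤ J) :
    (Scheme.IdealSheafData.inclusion h).ker = J.comap I.subschemeι := by
  refine le_antisymm ?_ (Scheme.IdealSheafData.le_map_iff_comap_le.mp ?_)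
  · have hf : pullback.fst I.subschemeι J.subschemeι =
        pullback.snd I.subschemeι J.subschemeι ≫ Scheme.IdealSheafData.inclusion h := by
      rw [← cancel_mono I.subschemeι, Category.assoc, Scheme.IdealSheafData.inclusion_subschemeι]
      exact pullback.condition
    show _ ≤ (pullback.fst I.subschemeι J.subschemeι).ker
    rw [hf]
    exact Scheme.Hom.le_ker_comp _ _
  · rw [Scheme.IdealSheafData.map_ker, Scheme.IdealSheafData.inclusion_subschemeι, Scheme.IdealSheafData.ker_subschemeι]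

theorem finrank_mul {X S : Scheme.{u}} (f : X ⟶ S) (I₁ I₂ : X.IdealSheafData)
    (hE₁ : BlowUp.IsEffCartierIdeal I₁) (hE₂ : BlowUp.IsEffCartierIdeal I₂) (hle₁ : I₁ * I₂ ≤ I₁) (hle₂ : I₁ * I₂ ≤ I₂)
    [IsFinite (Scheme.IdealSheafData.inclusion hle₁ ≫ (I₁ * I₂).subschemeι ≫ f)]
    [Flat (Scheme.IdealSheafData.inclusion hle₁ ≫ (I₁ * I₂).subschemeι ≫ f)]
    [LocallyOfFinitePresentation (Scheme.IdealSheafData.inclusion hle₁ ≫ (I₁ * I₂).subschemeι ≫ f)]
    [IsFinite (Scheme.IdealSheafData.inclusion hle₂ ≫ (I₁ * I₂).subschemeι ≫ f)]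
    [Flat (Scheme.IdealSheafData.inclusion hle₂ ≫ (I₁ * I₂).subschemeι ≫ f)]
    [IsFinite ((I₁ * I₂).subschemeι ≫ f)] [Flat ((I₁ * I₂).subschemeι ≫ f)] (s : S) :
    ((I₁ * I₂).subschemeι ≫ f).finrank s =
      (Scheme.IdealSheafData.inclusion hle₁ ≫ (I₁ * I₂).subschemeι ≫ f).finrank s +
      (Scheme.IdealSheafData.inclusion hle₂ ≫ (I₁ * I₂).subschemeι ≫ f).finrank s := by
  let J := I₁ * I₂
  let i₁ := Scheme.IdealSheafData.inclusion hle₁
  let i₂ := Scheme.IdealSheafData.inclusion hle₂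
  haveI : IsClosedImmersion (i₁ ≫ J.subschemeι) := by
    rw [Scheme.IdealSheafData.inclusion_subschemeι]; infer_instance
  haveI : IsClosedImmersion (i₂ ≫ J.subschemeι) := by
    rw [Scheme.IdealSheafData.inclusion_subschemeι]; infer_instance
  haveI : IsClosedImmersion i₁ := IsClosedImmersion.of_comp i₁ J.subschemeι
  haveI : IsClosedImmersion i₂ := IsClosedImmersion.of_comp i₂ J.subschemeι
  let g := J.subschemeι ≫ f
  obtain ⟨V, hV, hsV, -⟩ := exists_isAffineOpen_mem_and_subset (U := (⊤ : S.Opens)) (x := s) trivial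
  rw [FinLocFree.finrank_eq_rankAtStalk g hV hsV, FinLocFree.finrank_eq_rankAtStalk (i₁ ≫ g) hV hsV,
    FinLocFree.finrank_eq_rankAtStalk (i₂ ≫ g) hV hsV]
  let W : J.subscheme.affineOpens := ⟨g ⁻¹ᵁ V, hV.preimage g⟩
  letI : Algebra Γ(S, V) Γ(J.subscheme, W.1) := (g.app V).hom.toAlgebra
  letI : Algebra Γ(S, V) Γ(I₁.subscheme, (i₁ ≫ g) ⁻¹ᵁ V) := ((i₁ ≫ g).app V).hom.toAlgebra
  letI : Algebra Γ(S, V) Γ(I₂.subscheme, (i₂ ≫ g) ⁻¹ᵁ V) := ((i₂ ≫ g).app V).hom.toAlgebra
  haveI : Module.Finite Γ(S, V) Γ(J.subscheme, W.1) := g.finite_app V hV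
  haveI : Module.Finite Γ(S, V) Γ(I₁.subscheme, (i₁ ≫ g) ⁻¹ᵁ V) := (i₁ ≫ g).finite_app V hV
  haveI : Module.Flat Γ(S, V) Γ(J.subscheme, W.1) := by
    have := g.flat_appLE hV (hV.preimage g) le_rfl
    rw [← g.app_eq_appLE] at this
    exact this
  haveI : Module.Projective Γ(S, V) Γ(I₁.subscheme, (i₁ ≫ g) ⁻¹ᵁ V) := by
    haveI : Module.Flat Γ(S, V) Γ(I₁.subscheme, (i₁ ≫ g) ⁻¹ᵁ V) := by
      have := (i₁ ≫ g).flat_appLE hV (hV.preimage _) le_rfl
      rw [← (i₁ ≫ g).app_eq_appLE] at this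
      exact this
    haveI : Algebra.FinitePresentation Γ(S, V) Γ(I₁.subscheme, (i₁ ≫ g) ⁻¹ᵁ V) := by
      have := HasRingHomProperty.appLE @LocallyOfFinitePresentation (i₁ ≫ g) inferInstance ⟨V, hV⟩ ⟨_, hV.preimage _⟩ le_rfl
      rw [← (i₁ ≫ g).app_eq_appLE] at this
      exact this
    haveI : Module.FinitePresentation Γ(S, V) Γ(I₁.subscheme, (i₁ ≫ g) ⁻¹ᵁ V) := .of_finite_of_finitePresentation _ _
    exact Module.Flat.projective_of_finitePresentation
  let π₁ : Γ(J.subscheme, W.1) →ₐ[Γ(S, V)] Γ(I₁.subscheme, (i₁ ≫ g) ⁻¹ᵁ V) :=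
    { (i₁.app W.1).hom with commutes' := fun r => rfl }
  let π₂ : Γ(J.subscheme, W.1) →ₐ[Γ(S, V)] Γ(I₂.subscheme, (i₂ ≫ g) ⁻¹ᵁ V) :=
    { (i₂.app W.1).hom with commutes' := fun r => rfl }
  have hk₁ : i₁.ker.ideal W = RingHom.ker π₁ := Scheme.Hom.ker_apply i₁ W
  have hk₂ : i₂.ker.ideal W = RingHom.ker π₂ := Scheme.Hom.ker_apply i₂ W
  -- local generators
  have hgen : ∀ z : J.subscheme, ∃ t₁ t₂ : X.presheaf.stalk (J.subschemeι z),
      t₁ ∈ nonZeroDivisors _ ∧ gI I₁ (J.subschemeι z) = Ideal.span {t₁} ∧ gI I₂ (J.subschemeι z) = Ideal.span {t₂} ∧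
      RingHom.ker (J.subschemeι.stalkMap z).hom = Ideal.span {t₁ * t₂} := by
    intro z
    obtain ⟨U, hx, -, ⟨a, ha, hI₁⟩, ⟨b, -, hI₂⟩⟩ :=
      DivFlat.exists_chart₂ hE₁ hE₂ (O := ⊤) (x := J.subschemeι z) trivial
    letI := TopCat.Presheaf.algebra_section_stalk X.presheaf (⟨_, hx⟩ : U.1)
    haveI := U.2.isLocalization_stalk ⟨_, hx⟩
    refine ⟨X.presheaf.germ U.1 _ hx a, X.presheaf.germ U.1 _ hx b,
      IsLocalization.map_nonZeroDivisors_le (U.2.primeIdealOf ⟨_, hx⟩).asIdeal.primeCompl _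
        (Submonoid.mem_map_of_mem _ ha),
      by rw [gI_eq I₁ U hx, hI₁, Ideal.map_span, Set.image_singleton],
      by rw [gI_eq I₂ U hx, hI₂, Ideal.map_span, Set.image_singleton], ?_⟩
    rw [RegEmbed.ker_stalkMap J.subschemeι z U.1 U.2 hx, Scheme.IdealSheafData.ker_subschemeι_app]
    show ((I₁ * I₂).ideal U).map _ = _
    rw [Scheme.IdealSheafData.ideal_mul, Pi.mul_apply, hI₁, hI₂, Ideal.span_singleton_mul_span_singleton,
      Ideal.map_span, Set.image_singleton, map_mul]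
  refine rankAtStalk_add π₁ π₂ (Scheme.Hom.app_surjective i₁ W.1 W.2) (Scheme.Hom.app_surjective i₂ W.1 W.2) ?_ _ ?_
  · intro x hx k hk
    have h : (i₂.ker * i₁.ker).ideal W ≤ (⊥ : J.subscheme.IdealSheafData).ideal W := by
      refine ideal_le_of_gI_le _ _ W fun z _ => ?_
      obtain ⟨t₁, t₂, -, h₁, h₂, hker⟩ := hgen z
      rw [gI_mul, ker_inclusion, ker_inclusion, Div38.gI_comap, Div38.gI_comap, h₁, h₂, ← Ideal.map_mul,
        Ideal.span_singleton_mul_span_singleton, mul_comm t₂, ← hker, Ideal.map_le_iff_le_comap]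
      intro w hw
      rw [Ideal.mem_comap, RingHom.mem_ker.mp hw]
      exact zero_mem _
    have h' := h (show x * k ∈ (i₂.ker * i₁.ker).ideal W from by
      rw [Scheme.IdealSheafData.ideal_mul, Pi.mul_apply, hk₁, hk₂]
      exact Ideal.mul_mem_mul (RingHom.mem_ker.mpr hx) (RingHom.mem_ker.mpr hk))
    rwa [Scheme.IdealSheafData.ideal_bot, Pi.bot_apply, Submodule.mem_bot] at h'
  · intro q hq _
    let q' : PrimeSpectrum Γ(J.subscheme, W.1) := ⟨q, hq⟩
    let z := InvExtend.pt W.2 q'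
    have hzW : z ∈ W.1 := InvExtend.pt_mem W.2 q'
    have hqz : (W.2.primeIdealOf ⟨z, hzW⟩).asIdeal = q :=
      congrArg PrimeSpectrum.asIdeal (InvExtend.primeIdealOf_pt W.2 q')
    obtain ⟨t₁, t₂, ht₁, h₁, h₂, hker⟩ := hgen z
    let φ := (J.subschemeι.stalkMap z).hom
    have hg₁ : gI i₁.ker z = Ideal.span {φ t₁} := by
      rw [ker_inclusion, Div38.gI_comap, h₁, Ideal.map_span, Set.image_singleton]
    have hg₂ : gI i₂.ker z = Ideal.span {φ t₂} := by
      rw [ker_inclusion, Div38.gI_comap, h₂, Ideal.map_span, Set.image_singleton]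
    letI := TopCat.Presheaf.algebra_section_stalk J.subscheme.presheaf (⟨z, hzW⟩ : W.1)
    haveI := W.2.isLocalization_stalk ⟨z, hzW⟩
    obtain ⟨⟨⟨a, ha⟩, c⟩, hac⟩ := (IsLocalization.mem_map_algebraMap_iff (W.2.primeIdealOf ⟨z, hzW⟩).asIdeal.primeCompl
      (J.subscheme.presheaf.stalk z)).mp ((gI_eq i₁.ker W hzW).le (hg₁.ge (Ideal.mem_span_singleton_self _)))
    have hcu : IsUnit (algebraMap Γ(J.subscheme, W.1) (J.subscheme.presheaf.stalk z) c) := IsLocalization.map_units _ c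
    refine ⟨a, hk₁.le ha, fun k hk => ?_, fun x hx => ?_⟩
    · have h : algebraMap Γ(J.subscheme, W.1) (J.subscheme.presheaf.stalk z) k ∈
          (Ideal.span {a}).map (algebraMap Γ(J.subscheme, W.1) (J.subscheme.presheaf.stalk z)) := by
        rw [Ideal.map_span, Set.image_singleton, ← hac, Ideal.span_singleton_mul_right_unit hcu, ← hg₁, gI_eq i₁.ker W hzW]
        exact Ideal.mem_map_of_mem _ (hk₁.ge hk)
      obtain ⟨y, hy, hy'⟩ := (IsLocalization.algebraMap_mem_map_algebraMap_iff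
        (W.2.primeIdealOf ⟨z, hzW⟩).asIdeal.primeCompl (J.subscheme.presheaf.stalk z) (Ideal.span {a}) k).mp h
      exact ⟨y, hqz ▸ hy, hy'⟩
    · have hx0 : algebraMap Γ(J.subscheme, W.1) (J.subscheme.presheaf.stalk z) x * φ t₁ = 0 := by
        refine hcu.mul_left_eq_zero.mp ?_
        rw [mul_assoc, hac, ← map_mul, hx, map_zero]
      obtain ⟨w, hw⟩ := J.subschemeι.stalkMap_surjective z (algebraMap Γ(J.subscheme, W.1) (J.subscheme.presheaf.stalk z) x)
      have hmem : w * t₁ ∈ Ideal.span {t₁ * t₂} := by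
        rw [← hker, RingHom.mem_ker, map_mul]
        exact (congrArg (· * φ t₁) hw).trans hx0
      obtain ⟨r, hr⟩ := Ideal.mem_span_singleton'.mp hmem
      have hwr : w = r * t₂ := (mul_cancel_right_mem_nonZeroDivisors ht₁).mp (by rw [← hr]; ring)
      have hgx : J.subscheme.presheaf.germ W.1 z hzW x ∈ gI i₂.ker z := by
        rw [hg₂, Ideal.mem_span_singleton']
        exact ⟨φ r, by rw [← map_mul, ← hwr]; exact hw⟩
      obtain ⟨y, hy, hy'⟩ := (mem_gI_iff i₂.ker W hzW x).mp hgx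
      exact ⟨y, hqz ▸ hy, hk₂.le hy'⟩

/-- The sum of two divisors finite over the base is finite. -/
theorem isFinite_mul {X S : Scheme.{u}} (f : X ⟶ S) [LocallyOfFiniteType f] (I₁ I₂ : X.IdealSheafData)
    (hle₁ : I₁ * I₂ ≤ I₁) (hle₂ : I₁ * I₂ ≤ I₂) [IsFinite (I₁.subschemeι ≫ f)] [IsFinite (I₂.subschemeι ≫ f)]
    [LocallyQuasiFinite ((I₁ * I₂).subschemeι ≫ f)] : IsFinite ((I₁ * I₂).subschemeι ≫ f) := by
  let T : Bool → Scheme.{u} := fun b => bif b then I₁.subscheme else I₂.subscheme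
  let j : ∀ b, T b ⟶ (I₁ * I₂).subscheme := fun b => match b with
    | true => Scheme.IdealSheafData.inclusion hle₁
    | false => Scheme.IdealSheafData.inclusion hle₂
  haveI : ∀ b, IsClosedImmersion (j b) := fun b => by
    haveI : IsClosedImmersion (j b ≫ (I₁ * I₂).subschemeι) := by
      cases b <;> simp only [j, Scheme.IdealSheafData.inclusion_subschemeι] <;> infer_instance
    exact IsClosedImmersion.of_comp (j b) (I₁ * I₂).subschemeι
  haveI : IsProper ((I₁ * I₂).subschemeι ≫ f) := by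
    refine ProperCover.isProper_of_cover _ j (fun z => ?_) fun b => ?_
    · have hz : (I₁ * I₂).subschemeι z ∈ (I₁ * I₂).support := (Scheme.IdealSheafData.range_subschemeι _).le ⟨z, rfl⟩
      have h : (I₁ * I₂).subschemeι z ∈ I₁.support ∨ (I₁ * I₂).subschemeι z ∈ I₂.support := by
        by_contra hne
        push Not at hne
        refine (gI_eq_top_iff (I₁ * I₂) _).mp ?_ hz
        rw [gI_mul, (gI_eq_top_iff I₁ _).mpr hne.1, (gI_eq_top_iff I₂ _).mpr hne.2, Ideal.top_mul]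
      rcases h with h | h
      · obtain ⟨w, hw⟩ := (Scheme.IdealSheafData.range_subschemeι I₁).ge h
        refine ⟨true, w, (I₁ * I₂).subschemeι.isEmbedding.injective ?_⟩
        rw [← Scheme.Hom.comp_apply, Scheme.IdealSheafData.inclusion_subschemeι]; exact hw
      · obtain ⟨w, hw⟩ := (Scheme.IdealSheafData.range_subschemeι I₂).ge h
        refine ⟨false, w, (I₁ * I₂).subschemeι.isEmbedding.injective ?_⟩
        rw [← Scheme.Hom.comp_apply, Scheme.IdealSheafData.inclusion_subschemeι]; exact hw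
    · cases b <;> simp only [j, Scheme.IdealSheafData.inclusion_subschemeι_assoc] <;> infer_instance
  exact IsFinite.of_isProper_of_locallyQuasiFinite _

theorem mul_le_left_right {X : Scheme.{u}} (I J : X.IdealSheafData) : I * J ≤ I ∧ I * J ≤ J :=
  ⟨fun U => by
      rw [Scheme.IdealSheafData.ideal_mul, Pi.mul_apply]
      exact Ideal.mul_le.mpr fun a ha b _ => Ideal.mul_mem_right b (I.ideal U) ha,
    fun U => by
      rw [Scheme.IdealSheafData.ideal_mul, Pi.mul_apply]
      exact Ideal.mul_le.mpr fun a _ b hb => Ideal.mul_mem_left (J.ideal U) a hb⟩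

/-- The sum of divisors finite locally free of degrees `d₁`, `d₂` is finite locally free of degree `d₁ + d₂`. -/
theorem finLocFreeOfDeg_mul {X S : Scheme.{u}} (f : X ⟶ S) [SmoothOfRelativeDimension 1 f]
    (I₁ I₂ : X.IdealSheafData) (d₁ d₂ : ℕ) (h₁ : Mor2.IsFinLocFreeOfDeg d₁ (I₁.subschemeι ≫ f))
    (h₂ : Mor2.IsFinLocFreeOfDeg d₂ (I₂.subschemeι ≫ f)) :
    Mor2.IsFinLocFreeOfDeg (d₁ + d₂) ((I₁ * I₂).subschemeι ≫ f) := by
  haveI : Smooth f := SmoothOfRelativeDimension.smooth 1 f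
  obtain ⟨⟨hfin₁, hflat₁, hfp₁⟩, hd₁⟩ := h₁
  obtain ⟨⟨hfin₂, hflat₂, hfp₂⟩, hd₂⟩ := h₂
  have hE₁ := effCartier_of_lqf f I₁
  have hE₂ := effCartier_of_lqf f I₂
  obtain ⟨hE, hflat⟩ := S1702.result f I₁ I₂ ⟨hE₁, hflat₁⟩ ⟨hE₂, hflat₂⟩
  haveI := hflat
  haveI := lfp_of_effCartier hE
  haveI := lqf_of_effCartier f (I₁ * I₂) hE
  obtain ⟨hle₁, hle₂⟩ := mul_le_left_right I₁ I₂
  haveI := isFinite_mul f I₁ I₂ hle₁ hle₂
  refine ⟨⟨inferInstance, hflat, inferInstance⟩, fun s => ?_⟩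
  rw [← Scheme.IdealSheafData.inclusion_subschemeι hle₁, Category.assoc] at hfin₁ hflat₁ hfp₁ hd₁
  rw [← Scheme.IdealSheafData.inclusion_subschemeι hle₂, Category.assoc] at hfin₂ hflat₂ hd₂
  rw [finrank_mul f I₁ I₂ hE₁ hE₂ hle₁ hle₂ s, hd₁ s, hd₂ s]

end Groth.Agent.CurveDiv
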