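import Mathlib
import Groth.Agent.CurveDiv.Rank
import Groth.Agent.S1710
import Groth.Agent.Div38.Glue

/-!
# Differences of divisors
-/

set_option autoImplicit false

universe u

open CategoryTheory Limits AlgebraicGeometry TopologicalSpace
open Groth.Agent Groth.Agent.DivCodimTwo Groth.FlatDescent

namespace Groth.Agent.CurveDiv

/-- The difference of two effective Cartier divisors. -/
theorem exists_mul_eq_of_le {X : Scheme.{u}} {I₁ I₂ : X.IdealSheafData} (h₁ : BlowUp.IsEffCartierIdeal I₁)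
    (h₂ : BlowUp.IsEffCartierIdeal I₂) (hle : I₂ ≤ I₁) :
    ∃ I : X.IdealSheafData, BlowUp.IsEffCartierIdeal I ∧ I₁ * I = I₂ := by
  let C : ∀ y : X, Ideal (X.presheaf.stalk y) := fun y =>
    ⨅ t : gI I₁ y, Submodule.comap (LinearMap.mulLeft (X.presheaf.stalk y) t.1) (gI I₂ y)
  have hmemC : ∀ y (r : X.presheaf.stalk y), r ∈ C y ↔ ∀ t ∈ gI I₁ y, t * r ∈ gI I₂ y := fun y r => by
    simp [C, Submodule.mem_iInf, Subtype.forall]
  have hch : ∀ y : X, ∃ (D : X.affineOpens) (c : Γ(X, D.1)), y ∈ D.1 ∧ ∀ z (hz : z ∈ D.1),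
      (C z = Ideal.span {X.presheaf.germ D.1 z hz c} ∧
        X.presheaf.germ D.1 z hz c ∈ nonZeroDivisors (X.presheaf.stalk z)) ∧
      gI I₁ z * C z = gI I₂ z := by
    intro y
    obtain ⟨U, hy, -, ⟨a, ha, hI₁⟩, ⟨b, hb, hI₂⟩⟩ := DivFlat.exists_chart₂ h₁ h₂ (O := ⊤) (x := y) trivial
    obtain ⟨c, hc⟩ := Ideal.mem_span_singleton'.mp (hI₁.le (hle U (hI₂.ge (Ideal.mem_span_singleton_self b))))
    refine ⟨U, c, hy, fun z hz => ?_⟩
    letI := TopCat.Presheaf.algebra_section_stalk X.presheaf (⟨z, hz⟩ : U.1)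
    haveI := U.2.isLocalization_stalk ⟨z, hz⟩
    let G := X.presheaf.germ U.1 z hz
    have hA : G a ∈ nonZeroDivisors (X.presheaf.stalk z) :=
      IsLocalization.map_nonZeroDivisors_le (U.2.primeIdealOf ⟨z, hz⟩).asIdeal.primeCompl _ (Submonoid.mem_map_of_mem _ ha)
    have hB : G b ∈ nonZeroDivisors (X.presheaf.stalk z) :=
      IsLocalization.map_nonZeroDivisors_le (U.2.primeIdealOf ⟨z, hz⟩).asIdeal.primeCompl _ (Submonoid.mem_map_of_mem _ hb)
    have hg₁ : gI I₁ z = Ideal.span {G a} := by rw [gI_eq I₁ U hz, hI₁, Ideal.map_span, Set.image_singleton]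
    have hg₂ : gI I₂ z = Ideal.span {G b} := by rw [gI_eq I₂ U hz, hI₂, Ideal.map_span, Set.image_singleton]
    have hGb : G b = G c * G a := by rw [← map_mul, hc]
    have hCz : C z = Ideal.span {G c} := by
      ext r
      rw [hmemC, hg₁, hg₂, Ideal.mem_span_singleton', hGb]
      constructor
      · intro h
        obtain ⟨w, hw⟩ := Ideal.mem_span_singleton'.mp (h _ (Ideal.mem_span_singleton_self _))
        exact ⟨w, (mul_cancel_right_mem_nonZeroDivisors hA).mp (by rw [mul_assoc, hw, mul_comm])⟩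
      · rintro ⟨w, rfl⟩ t ht
        obtain ⟨v, rfl⟩ := Ideal.mem_span_singleton'.mp ht
        exact Ideal.mem_span_singleton'.mpr ⟨v * w, by ring⟩
    refine ⟨⟨hCz, (mul_mem_nonZeroDivisors.mp (hGb ▸ hB)).1⟩, ?_⟩
    rw [hCz, hg₁, hg₂, Ideal.span_singleton_mul_span_singleton, hGb, mul_comm]
  obtain ⟨I, hI, hIC⟩ := Div38.exists_isEffCartier_gI_eq C fun y => by
    obtain ⟨D, c, hy, h⟩ := hch y
    exact ⟨D, c, hy, fun z hz => (h z hz).1⟩
  have h : ∀ y, gI (I₁ * I) y = gI I₂ y := fun y => by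
    obtain ⟨D, c, hy, h⟩ := hch y
    rw [gI_mul, hIC, (h y hy).2]
  exact ⟨I, hI, le_antisymm (le_of_gI_le _ _ fun y => (h y).le) (le_of_gI_le _ _ fun y => (h y).ge)⟩

theorem finLocFreeOfDeg_diff {X S : Scheme.{u}} (f : X ⟶ S) [SmoothOfRelativeDimension 1 f]
    (I₁ I₂ : X.IdealSheafData) (hle : I₂ ≤ I₁) (d₁ d₂ : ℕ) (h₁ : Mor2.IsFinLocFreeOfDeg d₁ (I₁.subschemeι ≫ f))
    (h₂ : Mor2.IsFinLocFreeOfDeg d₂ (I₂.subschemeι ≫ f)) :
    ∃ I : X.IdealSheafData, Mor2.IsFinLocFreeOfDeg (d₂ - d₁) (I.subschemeι ≫ f) ∧ I₂ = I₁ * I := by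
  haveI : Smooth f := SmoothOfRelativeDimension.smooth 1 f
  obtain ⟨⟨hfin₁, hflat₁, hfp₁⟩, hd₁⟩ := h₁
  obtain ⟨⟨hfin₂, hflat₂, hfp₂⟩, hd₂⟩ := h₂
  have hE₁ := effCartier_of_lqf f I₁
  have hE₂ := effCartier_of_lqf f I₂
  obtain ⟨I, hE, rfl⟩ := exists_mul_eq_of_le hE₁ hE₂ hle
  have hflat : Flat (I.subschemeι ≫ f) := S1710.result f I₁ (I₁ * I) I ⟨hE₁, hflat₁⟩ ⟨hE₂, hflat₂⟩ hE rfl
  haveI := lfp_of_effCartier hE
  obtain ⟨hle₁, hle₂⟩ := mul_le_left_right I₁ I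
  haveI : IsClosedImmersion (Scheme.IdealSheafData.inclusion hle₂ ≫ (I₁ * I).subschemeι) := by
    rw [Scheme.IdealSheafData.inclusion_subschemeι]; infer_instance
  haveI : IsClosedImmersion (Scheme.IdealSheafData.inclusion hle₂) :=
    IsClosedImmersion.of_comp _ (I₁ * I).subschemeι
  have hfin : IsFinite (I.subschemeι ≫ f) := by
    rw [← Scheme.IdealSheafData.inclusion_subschemeι hle₂, Category.assoc]; infer_instance
  refine ⟨I, ⟨⟨hfin, hflat, inferInstance⟩, fun s => ?_⟩, rfl⟩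
  have hι := Scheme.IdealSheafData.inclusion_subschemeι hle₁
  rw [← hι, Category.assoc] at hfin₁ hflat₁ hfp₁ hd₁
  have hι₂ := Scheme.IdealSheafData.inclusion_subschemeι hle₂
  rw [← hι₂, Category.assoc] at hfin hflat ⊢
  have h := finrank_mul f I₁ I hE₁ hE hle₁ hle₂ s
  rw [hd₁ s, hd₂ s] at h
  omega

end Groth.Agent.CurveDiv
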