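import Mathlib
import Groth.Agent.CurveDiv.Diff
import Groth.Agent.BlowUpLib.Basic
import Groth.Agent.S14845
import Groth.Prelude.Def_HilbD
import Groth.Prelude.Def_PicGrp2

/-!
# Adding a point to a divisor
-/

set_option autoImplicit false

universe u

open CategoryTheory Limits AlgebraicGeometry TopologicalSpace
open Groth.Agent Groth.Agent.DivCodimTwo Groth.FlatDescent

namespace Groth.Agent.CurveDiv

variable {X S : Scheme.{u}} (f : X ⟶ S)

theorem hilbPull_eq {T T' : Over S} (g : T' ⟶ T) (I : (PicF.XT f T).IdealSheafData) :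
    HilbD.pull f g I = I.comap (PicF.XTmap f g) := by
  show (pullback.snd I.subschemeι (PicF.XTmap f g)).ker = (pullback.fst (PicF.XTmap f g) I.subschemeι).ker
  rw [← pullbackSymmetry_hom_comp_fst]
  exact Scheme.Hom.ker_comp_of_isIso _ _

theorem hilbPull_comp {T T' T'' : Over S} (a : T'' ⟶ T') (b : T' ⟶ T) (I : (PicF.XT f T).IdealSheafData) :
    HilbD.pull f (a ≫ b) I = HilbD.pull f a (HilbD.pull f b I) := by
  rw [hilbPull_eq, hilbPull_eq, hilbPull_eq, PicGrp.XTmap_comp, Scheme.IdealSheafData.comap_comp]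

theorem hilbPull_mul {T T' : Over S} (g : T' ⟶ T) (I J : (PicF.XT f T).IdealSheafData) :
    HilbD.pull f g (I * J) = HilbD.pull f g I * HilbD.pull f g J := by
  rw [hilbPull_eq, hilbPull_eq, hilbPull_eq, BlowUpLib.comap_mul]

theorem hilbPull_secGraph [IsSeparated f] {T T' : Over S} (a : T' ⟶ T) (x : T.left ⟶ X) (hx : x ≫ f = T.hom)
    (hx' : (a.left ≫ x) ≫ f = T'.hom) :
    HilbD.pull f a (HilbD.secGraph f T x hx) = HilbD.secGraph f T' (a.left ≫ x) hx' := by
  have h1 := S14845.pull_secGraph f T (Over.homMk x hx)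
  have h2 := S14845.pull_secGraph f T' (a ≫ Over.homMk x hx)
  rw [hilbPull_comp, h1] at h2
  exact h2

theorem isPullback_XTmap' {T T' : Over S} (g : T' ⟶ T) :
    IsPullback (PicF.XTmap f g) (PicF.XTproj f T') (PicF.XTproj f T) g.left := by
  have hsnd : PicF.XTmap f g ≫ PicF.XTproj f T = PicF.XTproj f T' ≫ g.left := pullback.lift_snd _ _ _
  refine IsPullback.of_right ?_ hsnd (IsPullback.of_hasPullback f T.hom)
  have hfst : PicF.XTmap f g ≫ pullback.fst f T.hom = pullback.fst f T'.hom :=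
    (pullback.lift_fst _ _ _).trans (Category.comp_id _)
  rw [hfst, Over.w g]
  exact IsPullback.of_hasPullback f T'.hom

theorem hilbPull_mem {d : ℕ} {T T' : Over S} (g : T' ⟶ T) {I : (PicF.XT f T).IdealSheafData}
    (h : Mor2.IsFinLocFreeOfDeg d (I.subschemeι ≫ PicF.XTproj f T)) :
    Mor2.IsFinLocFreeOfDeg d ((HilbD.pull f g I).subschemeι ≫ PicF.XTproj f T') := by
  obtain ⟨⟨h1, h2, h3⟩, h4⟩ := h
  rw [hilbPull_eq]
  have hp : IsPullback ((I.comapIso (PicF.XTmap f g)).hom ≫ pullback.snd _ _)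
      ((I.comap (PicF.XTmap f g)).subschemeι ≫ PicF.XTproj f T') (I.subschemeι ≫ PicF.XTproj f T) g.left := by
    refine IsPullback.paste_vert ?_ (isPullback_XTmap' f g)
    exact (IsPullback.of_hasPullback (PicF.XTmap f g) I.subschemeι).flip.of_iso
      (I.comapIso (PicF.XTmap f g)).symm (Iso.refl _) (Iso.refl _) (Iso.refl _) (by simp [-Scheme.IdealSheafData.comapIso_hom_snd, -Scheme.IdealSheafData.comapIso_hom_snd_assoc]) (by simp) (by simp) (by simp)
  exact ⟨⟨MorphismProperty.of_isPullback hp h1, MorphismProperty.of_isPullback hp h2,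
    MorphismProperty.of_isPullback hp h3⟩, fun y => by rw [Scheme.Hom.finrank_of_isPullback _ _ _ _ hp, h4]⟩

theorem smooth_XTproj [SmoothOfRelativeDimension 1 f] (T : Over S) :
    SmoothOfRelativeDimension 1 (PicF.XTproj f T) := by
  haveI : MorphismProperty.IsStableUnderBaseChange (@SmoothOfRelativeDimension.{u} 1) :=
    smoothOfRelativeDimension_isStableUnderBaseChange 1
  exact (smoothOfRelativeDimension_isStableUnderBaseChange 1).of_isPullback
    (IsPullback.of_hasPullback f T.hom) ‹SmoothOfRelativeDimension 1 f›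

theorem mul_left_cancel_ec {Y : Scheme.{u}} {G I J : Y.IdealSheafData} (hG : BlowUp.IsEffCartierIdeal G)
    (h : G * I = G * J) : I = J := by
  have key : ∀ y, gI I y = gI J y := fun y => by
    obtain ⟨U, hy, a, ha, hI⟩ := hG y
    letI := TopCat.Presheaf.algebra_section_stalk Y.presheaf (⟨y, hy⟩ : U.1)
    haveI := U.2.isLocalization_stalk ⟨y, hy⟩
    have hA : Y.presheaf.germ U.1 y hy a ∈ nonZeroDivisors (Y.presheaf.stalk y) :=
      IsLocalization.map_nonZeroDivisors_le (U.2.primeIdealOf ⟨y, hy⟩).asIdeal.primeCompl _ (Submonoid.mem_map_of_mem _ ha)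
    have hg : gI G y = Ideal.span {Y.presheaf.germ U.1 y hy a} := by rw [gI_eq G U hy, hI, Ideal.map_span, Set.image_singleton]
    have h' := congrArg (gI · y) h
    simp only [gI_mul, hg] at h'
    ext r
    constructor
    · intro hr
      obtain ⟨c, hc, hce⟩ := Ideal.mem_span_singleton_mul.mp
        (h'.le (Ideal.mul_mem_mul (Ideal.mem_span_singleton_self _) hr))
      rwa [← (mul_cancel_left_mem_nonZeroDivisors hA).mp hce]
    · intro hr
      obtain ⟨c, hc, hce⟩ := Ideal.mem_span_singleton_mul.mp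
        (h'.ge (Ideal.mul_mem_mul (Ideal.mem_span_singleton_self _) hr))
      rwa [← (mul_cancel_left_mem_nonZeroDivisors hA).mp hce]
  exact le_antisymm (le_of_gI_le _ _ fun y => (key y).le) (le_of_gI_le _ _ fun y => (key y).ge)

variable [IsSeparated f] [SmoothOfRelativeDimension 1 f]

theorem secGraph_effCartier (T : Over S) (x : T.left ⟶ X) (hx : x ≫ f = T.hom) :
    BlowUp.IsEffCartierIdeal (HilbD.secGraph f T x hx) := by
  obtain ⟨⟨h1, h2, h3⟩, -⟩ := S14845.secGraph_mem f T x hx
  haveI := smooth_XTproj f T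
  exact effCartier_of_lqf (PicF.XTproj f T) _

theorem addPoint {d : ℕ} (H : Over S) (Z : HilbD.Obj f d H) (hZ : HilbD.IsUniversal f d H Z)
    (H' : Over S) (Z' : HilbD.Obj f (d + 1) H') (hZ' : HilbD.IsUniversal f (d + 1) H' Z')
    (m : Over.mk (pullback.fst H.hom f ≫ H.hom) ⟶ H')
    (hm : HilbD.pull f m Z'.1 =
      HilbD.pull f (Over.homMk (pullback.fst H.hom f) rfl : Over.mk (pullback.fst H.hom f ≫ H.hom) ⟶ H) Z.1 *
        HilbD.secGraph f (Over.mk (pullback.fst H.hom f ≫ H.hom)) (pullback.snd H.hom f) pullback.condition.symm) :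
    Mor2.IsFinLocFreeOfDeg (d + 1) m.left := by
  let T : Over S := Over.mk (pullback.fst H.hom f ≫ H.hom)
  let pH : T ⟶ H := Over.homMk (pullback.fst H.hom f) rfl
  let xT : T.left ⟶ X := pullback.snd H.hom f
  have hxT : xT ≫ f = T.hom := pullback.condition.symm
  replace hm : HilbD.pull f m Z'.1 = HilbD.pull f pH Z.1 * HilbD.secGraph f T xT hxT := hm
  -- the total space of the universal family
  let ι := Z'.1.subschemeι
  let P : Over S := Over.mk ((ι ≫ PicF.XTproj f H') ≫ H'.hom)
  let m' : P ⟶ H' := Over.homMk (ι ≫ PicF.XTproj f H') rfl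
  let x' : P.left ⟶ X := ι ≫ pullback.fst f H'.hom
  have hx' : x' ≫ f = P.hom := by
    show (ι ≫ pullback.fst f H'.hom) ≫ f = (ι ≫ pullback.snd f H'.hom) ≫ H'.hom
    simp only [Category.assoc, pullback.condition]
  have hgr : S14845.gr f P x' hx' ≫ PicF.XTmap f m' = ι := by
    apply pullback.hom_ext
    · rw [Category.assoc, show PicF.XTmap f m' ≫ pullback.fst f H'.hom = pullback.fst f P.hom from
        (pullback.lift_fst _ _ _).trans (Category.comp_id _), S14845.gr_fst]
    · rw [Category.assoc, show PicF.XTmap f m' ≫ pullback.snd f H'.hom = pullback.snd f P.hom ≫ m'.left from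
        pullback.lift_snd _ _ _, ← Category.assoc, S14845.gr_snd, Category.id_comp]
      rfl
  have hleP : HilbD.pull f m' Z'.1 ≤ HilbD.secGraph f P x' hx' := by
    rw [hilbPull_eq, S14845.secGraph_eq, ← Scheme.IdealSheafData.le_map_iff_comap_le,
      Scheme.IdealSheafData.map_ker, hgr, Scheme.IdealSheafData.ker_subschemeι]
  haveI := smooth_XTproj f P
  obtain ⟨I, hI, hIeq⟩ := finLocFreeOfDeg_diff (PicF.XTproj f P) _ _ hleP 1 (d + 1)
    (S14845.secGraph_mem f P x' hx') (hilbPull_mem f m' Z'.2)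
  rw [Nat.add_sub_cancel] at hI
  obtain ⟨g, hg, -⟩ := hZ P ⟨I, hI⟩
  let β : P ⟶ T := Over.homMk (pullback.lift g.left x' ((Over.w g).trans hx'.symm))
    (by show pullback.lift g.left x' _ ≫ pullback.fst H.hom f ≫ H.hom = P.hom
        rw [pullback.lift_fst_assoc]; exact Over.w g)
  have hβH : β ≫ pH = g := Over.OverMorphism.ext (pullback.lift_fst _ _ _)
  have hβx : β.left ≫ xT = x' := pullback.lift_snd _ _ _
  -- the map to the universal family
  have hleT : HilbD.pull f m Z'.1 ≤ HilbD.secGraph f T xT hxT := by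
    rw [hm]; exact (mul_le_left_right _ _).2
  have hfac : ι.ker ≤ (S14845.gr f T xT hxT ≫ PicF.XTmap f m).ker := by
    rw [Scheme.IdealSheafData.ker_subschemeι, ← Scheme.IdealSheafData.map_ker, Scheme.IdealSheafData.le_map_iff_comap_le,
      ← hilbPull_eq, ← S14845.secGraph_eq]
    exact hleT
  let a := IsClosedImmersion.lift ι (S14845.gr f T xT hxT ≫ PicF.XTmap f m) hfac
  have ha : a ≫ ι = S14845.gr f T xT hxT ≫ PicF.XTmap f m := IsClosedImmersion.lift_fac _ _ _
  have ha1 : a ≫ ι ≫ pullback.fst f H'.hom = xT := by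
    rw [← Category.assoc, ha, Category.assoc, show PicF.XTmap f m ≫ pullback.fst f H'.hom = pullback.fst f T.hom from
        (pullback.lift_fst _ _ _).trans (Category.comp_id _), S14845.gr_fst]
  have ha2 : a ≫ ι ≫ PicF.XTproj f H' = m.left := by
    rw [← Category.assoc, ha, Category.assoc, show PicF.XTmap f m ≫ pullback.snd f H'.hom = pullback.snd f T.hom ≫ m.left from
        pullback.lift_snd _ _ _, ← Category.assoc, S14845.gr_snd, Category.id_comp]
  let α : T ⟶ P := Over.homMk a (by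
    show a ≫ (ι ≫ PicF.XTproj f H') ≫ H'.hom = T.hom
    rw [← Category.assoc, ha2]
    exact Over.w m)
  have hαm : α ≫ m' = m := Over.OverMorphism.ext ha2
  -- `α ≫ β = 𝟙`
  have hαβ : α ≫ g = pH := by
    obtain ⟨g₀, -, huniq⟩ := hZ T ⟨HilbD.pull f pH Z.1, hilbPull_mem f pH Z.2⟩
    refine (huniq _ ?_).trans (huniq pH rfl).symm
    show HilbD.pull f (α ≫ g) Z.1 = HilbD.pull f pH Z.1
    rw [hilbPull_comp, hg]
    refine mul_left_cancel_ec (secGraph_effCartier f T xT hxT) ?_
    have h := congrArg (HilbD.pull f α) hIeq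
    rw [← hilbPull_comp, hαm, hm, hilbPull_mul] at h
    have hgg : HilbD.pull f α (HilbD.secGraph f P x' hx') = HilbD.secGraph f T xT hxT := by
      rw [hilbPull_secGraph f α x' hx' (by rw [show α.left ≫ x' = xT from ha1]; exact hxT)]
      congr 1
    rw [hgg] at h
    rw [← h, mul_comm]
  have h1 : α.left ≫ β.left = 𝟙 _ := by
    apply pullback.hom_ext
    · rw [Category.assoc, Category.id_comp, show β.left ≫ pullback.fst H.hom f = g.left from pullback.lift_fst _ _ _]
      exact congrArg CommaMorphism.left hαβ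
    · rw [Category.assoc, Category.id_comp, show β.left ≫ pullback.snd H.hom f = x' from hβx]
      exact ha1
  -- `β ≫ α = 𝟙`
  have hβm : β ≫ m = m' := by
    obtain ⟨g₀, -, huniq⟩ := hZ' P ⟨HilbD.pull f m' Z'.1, hilbPull_mem f m' Z'.2⟩
    refine (huniq _ ?_).trans (huniq m' rfl).symm
    show HilbD.pull f (β ≫ m) Z'.1 = HilbD.pull f m' Z'.1
    rw [hilbPull_comp, hm, hilbPull_mul, ← hilbPull_comp, hβH, hg, hIeq,
      hilbPull_secGraph f β xT hxT (by rw [hβx]; exact hx'), mul_comm]
    congr 2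
  have h2 : β.left ≫ α.left = 𝟙 _ := by
    show β.left ≫ a = 𝟙 Z'.1.subscheme
    refine (cancel_mono ι).mp ?_
    rw [Category.assoc]
    refine Eq.trans ?_ (Category.id_comp _).symm
    apply pullback.hom_ext
    · rw [Category.assoc, Category.assoc, ha1]; exact hβx
    · rw [Category.assoc, Category.assoc, ha2]
      exact congrArg CommaMorphism.left hβm
  haveI : IsIso a := ⟨⟨β.left, h1, h2⟩⟩
  obtain ⟨⟨f1, f2, f3⟩, f4⟩ := Z'.2
  rw [← ha2]
  refine ⟨⟨inferInstance, inferInstance, inferInstance⟩, fun y => ?_⟩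
  rw [Scheme.Hom.finrank_comp_left_of_isIso]
  exact f4 y

end Groth.Agent.CurveDiv
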