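import Mathlib
import Groth.Agent.CurveDiv.AddPoint
import Groth.Agent.S5233
import Groth.Agent.FpqcDescent.Affine
import Groth.Agent.SourceDescent.Basic

/-!
# The Hilbert functor of points is an fpqc sheaf
-/

set_option autoImplicit false

universe u

open CategoryTheory Limits AlgebraicGeometry TopologicalSpace MorphismProperty

namespace Groth.Agent.CurveDiv

theorem arrow_ker_mk {X : Scheme.{u}} (I : X.IdealSheafData) :
    (Subobject.mk I.subschemeι).arrow.ker = I := by
  rw [← Subobject.underlyingIso_hom_comp_eq_mk, Scheme.Hom.ker_comp_of_isIso, Scheme.IdealSheafData.ker_subschemeι]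

theorem isClosedImmersion_mk {X : Scheme.{u}} (I : X.IdealSheafData) :
    IsClosedImmersion (Subobject.mk I.subschemeι).arrow := by
  rw [← Subobject.underlyingIso_hom_comp_eq_mk]; infer_instance

theorem ker_pullback_arrow {X Y : Scheme.{u}} (φ : X ⟶ Y) (y : Subobject Y) (hy : IsClosedImmersion y.arrow) :
    ((Subobject.pullback φ).obj y).arrow.ker = y.arrow.ker.comap φ := by
  haveI := hy
  have sq := (Subobject.isPullback φ y).flip
  -- compare with the pullback along the subscheme inclusion
  have sq' : IsPullback ((Subobject.pullback φ).obj y).arrow (Subobject.pullbackπ φ y ≫ y.arrow.toImage)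
      φ y.arrow.ker.subschemeι := by
    refine sq.of_iso (Iso.refl _) (Iso.refl _) (asIso y.arrow.toImage) (Iso.refl _) (by simp) (by simp) (by simp) ?_
    simp
  show _ = (pullback.fst φ y.arrow.ker.subschemeι).ker
  rw [← sq'.isoPullback_hom_fst]
  exact Scheme.Hom.ker_comp_of_isIso _ _

theorem descend_ideal {X Y : Scheme.{u}} (π : X ⟶ Y) [Flat π] [Surjective π] [QuasiCompact π] :
    (∀ I J : Y.IdealSheafData, I.comap π = J.comap π → I = J) ∧
      ∀ K : X.IdealSheafData, K.comap (pullback.fst π π) = K.comap (pullback.snd π π) →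
        ∃ I : Y.IdealSheafData, I.comap π = K := by
  have hb := S5233.result π
  refine ⟨fun I J h => ?_, fun K hK => ?_⟩
  · have h1 : (Subobject.pullback π).obj (Subobject.mk I.subschemeι) =
        (Subobject.pullback π).obj (Subobject.mk J.subschemeι) := by
      refine S5233.eq_of_ker_eq _ _ (S5233.isClosedImmersion_pullback π _ (isClosedImmersion_mk I))
        (S5233.isClosedImmersion_pullback π _ (isClosedImmersion_mk J)) ?_
      rw [ker_pullback_arrow π _ (isClosedImmersion_mk I), ker_pullback_arrow π _ (isClosedImmersion_mk J),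
        arrow_ker_mk, arrow_ker_mk, h]
    rw [← arrow_ker_mk I, ← arrow_ker_mk J]
    have h2 := hb.injOn (isClosedImmersion_mk I) (isClosedImmersion_mk J) h1
    exact congrArg (fun y : Subobject Y => y.arrow.ker) h2
  · have hz : (Subobject.pullback (pullback.fst π π)).obj (Subobject.mk K.subschemeι) =
        (Subobject.pullback (pullback.snd π π)).obj (Subobject.mk K.subschemeι) := by
      refine S5233.eq_of_ker_eq _ _ (S5233.isClosedImmersion_pullback _ _ (isClosedImmersion_mk K))
        (S5233.isClosedImmersion_pullback _ _ (isClosedImmersion_mk K)) ?_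
      rw [ker_pullback_arrow _ _ (isClosedImmersion_mk K), ker_pullback_arrow _ _ (isClosedImmersion_mk K),
        arrow_ker_mk, hK]
    obtain ⟨y, hy, hyK⟩ := hb.surjOn ⟨isClosedImmersion_mk K, hz⟩
    refine ⟨y.arrow.ker, ?_⟩
    rw [← ker_pullback_arrow π y hy, hyK, arrow_ker_mk]

variable {X S : Scheme.{u}} (f : X ⟶ S)

theorem hilb_sheaf (d : ℕ) (T : Over S) {T' : Scheme.{u}} (g : T' ⟶ T.left)
    [QuasiCompact g] [Flat g] [Surjective g] (Z' : HilbD.Obj f d (HilbD.coverOver T g))
    (hZ' : HilbD.pull f (HilbD.overlapFst T g) Z'.1 = HilbD.pull f (HilbD.overlapSnd T g) Z'.1) :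
    ∃! I : (PicF.XT f T).IdealSheafData, Mor2.IsFinLocFreeOfDeg d (I.subschemeι ≫ PicF.XTproj f T) ∧
      HilbD.pull f (HilbD.coverHom T g) I = Z'.1 := by
  let π := PicF.XTmap f (HilbD.coverHom T g)
  have hsq := isPullback_XTmap' f (HilbD.coverHom T g)
  haveI : Flat π := MorphismProperty.of_isPullback hsq.flip ‹Flat g›
  haveI : Surjective π := MorphismProperty.of_isPullback hsq.flip ‹Surjective g›
  haveI : QuasiCompact π := MorphismProperty.of_isPullback hsq.flip ‹QuasiCompact g›
  obtain ⟨hinj, hsurj⟩ := descend_ideal π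
  let q₁ := pullback.fst π π
  let q₂ := pullback.snd π π
  have hfst : π ≫ pullback.fst f T.hom = pullback.fst f (HilbD.coverOver T g).hom :=
    (pullback.lift_fst _ _ _).trans (Category.comp_id _)
  have hsnd : π ≫ pullback.snd f T.hom = pullback.snd f (HilbD.coverOver T g).hom ≫ g := pullback.lift_snd _ _ _
  have hq : q₁ ≫ pullback.fst f (HilbD.coverOver T g).hom = q₂ ≫ pullback.fst f (HilbD.coverOver T g).hom := by
    rw [← hfst, ← Category.assoc, ← Category.assoc]
    exact congrArg (· ≫ _) pullback.condition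
  have hq' : (q₁ ≫ pullback.snd f (HilbD.coverOver T g).hom) ≫ g = (q₂ ≫ pullback.snd f (HilbD.coverOver T g).hom) ≫ g := by
    rw [Category.assoc, Category.assoc, ← hsnd, ← Category.assoc, ← Category.assoc]
    exact congrArg (· ≫ _) pullback.condition
  let ψ : pullback π π ⟶ PicF.XT f (HilbD.overlapOver T g) :=
    pullback.lift (q₁ ≫ pullback.fst f (HilbD.coverOver T g).hom) (pullback.lift _ _ hq') (by
      show _ = pullback.lift _ _ hq' ≫ (pullback.fst g g ≫ g) ≫ T.hom
      rw [Category.assoc, pullback.condition, Category.assoc, pullback.lift_fst_assoc, Category.assoc]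
      rfl)
  have e₁ : ψ ≫ PicF.XTmap f (HilbD.overlapFst T g) = q₁ := by
    apply pullback.hom_ext
    · rw [Category.assoc, show PicF.XTmap f (HilbD.overlapFst T g) ≫ pullback.fst f _ = pullback.fst f _ from
        (pullback.lift_fst _ _ _).trans (Category.comp_id _)]
      exact pullback.lift_fst _ _ _
    · rw [Category.assoc, show PicF.XTmap f (HilbD.overlapFst T g) ≫ pullback.snd f _ =
        pullback.snd f _ ≫ pullback.fst g g from pullback.lift_snd _ _ _, pullback.lift_snd_assoc, pullback.lift_fst]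
  have e₂ : ψ ≫ PicF.XTmap f (HilbD.overlapSnd T g) = q₂ := by
    apply pullback.hom_ext
    · rw [Category.assoc, show PicF.XTmap f (HilbD.overlapSnd T g) ≫ pullback.fst f _ = pullback.fst f _ from
        (pullback.lift_fst _ _ _).trans (Category.comp_id _)]
      exact (pullback.lift_fst _ _ _).trans hq
    · rw [Category.assoc, show PicF.XTmap f (HilbD.overlapSnd T g) ≫ pullback.snd f _ =
        pullback.snd f _ ≫ pullback.snd g g from pullback.lift_snd _ _ _, pullback.lift_snd_assoc, pullback.lift_snd]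
  have hK : Z'.1.comap q₁ = Z'.1.comap q₂ := by
    rw [← e₁, ← e₂, Scheme.IdealSheafData.comap_comp, Scheme.IdealSheafData.comap_comp, ← hilbPull_eq, ← hilbPull_eq, hZ']
  obtain ⟨I, hI⟩ := hsurj Z'.1 hK
  have hI' : HilbD.pull f (HilbD.coverHom T g) I = Z'.1 := (hilbPull_eq f _ I).trans hI
  refine ⟨I, ⟨?_, hI'⟩, fun J hJ => hinj J I ?_⟩
  swap
  · exact ((hilbPull_eq f _ J).symm.trans hJ.2).trans hI.symm
  obtain ⟨⟨h1, h2, h3⟩, h4⟩ := Z'.2
  rw [← hI] at h1 h2 h3 h4
  let ι' := (I.comap π).subschemeι ≫ PicF.XTproj f (HilbD.coverOver T g)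
  have hp : IsPullback ι' ((I.comapIso π).hom ≫ pullback.snd _ _) g (I.subschemeι ≫ PicF.XTproj f T) := by
    refine IsPullback.flip (IsPullback.paste_vert ?_ hsq)
    exact (IsPullback.of_hasPullback π I.subschemeι).flip.of_iso
      (I.comapIso π).symm (Iso.refl _) (Iso.refl _) (Iso.refl _)
      (by simp [-Scheme.IdealSheafData.comapIso_hom_snd, -Scheme.IdealSheafData.comapIso_hom_snd_assoc])
      (by simp; try rfl) (by simp; try rfl) (by simp; try rfl)
  have hg : (@Surjective ⊓ @Flat ⊓ @QuasiCompact : MorphismProperty Scheme.{u}) g :=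
    ⟨⟨inferInstance, inferInstance⟩, inferInstance⟩
  haveI := FpqcDescent.isFinite_descendsAlong.{u}
  haveI f1 : IsFinite (I.subschemeι ≫ PicF.XTproj f T) := MorphismProperty.of_isPullback_of_descendsAlong hp hg h1
  haveI f2 : Flat (I.subschemeι ≫ PicF.XTproj f T) := by
    haveI : Surjective ((I.comapIso π).hom ≫ pullback.snd _ _) := MorphismProperty.of_isPullback hp ‹Surjective g›
    haveI : Flat ((I.comapIso π).hom ≫ pullback.snd _ _) := MorphismProperty.of_isPullback hp ‹Flat g›
    haveI : Flat (((I.comapIso π).hom ≫ pullback.snd _ _) ≫ I.subschemeι ≫ PicF.XTproj f T) := by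
      rw [← hp.w]
      haveI : Flat ι' := h2
      exact (inferInstance : Flat (ι' ≫ g))
    exact SourceDescent.flat_of_comp ((I.comapIso π).hom ≫ pullback.snd _ _) _
  haveI f3 : LocallyOfFinitePresentation (I.subschemeι ≫ PicF.XTproj f T) :=
    MorphismProperty.of_isPullback_of_descendsAlong hp hg h3
  refine ⟨⟨f1, f2, f3⟩, fun y => ?_⟩
  obtain ⟨y', rfl⟩ := g.surjective y
  rw [← Scheme.Hom.finrank_of_isPullback _ _ _ _ hp.flip y']
  exact h4 y'

end Groth.Agent.CurveDiv
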