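import Mathlib
import Groth.Agent.CurveDiv.Diff
import Groth.Agent.BlowUpLib.Basic

/-!
# Splitting a divisor into sections after a finite flat base change
-/

set_option autoImplicit false

universe u

open CategoryTheory Limits AlgebraicGeometry TopologicalSpace
open Groth.Agent Groth.Agent.DivCodimTwo Groth.FlatDescent

namespace Groth.Agent.CurveDiv

theorem comap_prod {X Y : Scheme.{u}} (φ : X ⟶ Y) {n : ℕ} (K : Fin n → Y.IdealSheafData) :
    (∏ i, K i).comap φ = ∏ i, (K i).comap φ := by
  induction n with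
  | zero => rw [Fin.prod_univ_zero, Fin.prod_univ_zero]; exact Scheme.IdealSheafData.comap_top φ
  | succ n ih => rw [Fin.prod_univ_succ, Fin.prod_univ_succ, BlowUpLib.comap_mul, ih]

theorem comap_inv_ker {A B T : Scheme.{u}} (e : A ≅ B) (τ : T ⟶ A) :
    τ.ker.comap e.inv = (τ ≫ e.hom).ker := by
  refine le_antisymm ?_ ?_
  · rw [← Scheme.IdealSheafData.le_map_iff_comap_le, Scheme.IdealSheafData.map_ker, Category.assoc, e.hom_inv_id,
      Category.comp_id]
  · have h : (τ ≫ e.hom).ker.comap e.hom ≤ τ.ker := by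
      rw [← Scheme.IdealSheafData.le_map_iff_comap_le, Scheme.IdealSheafData.map_ker]
    have h2 := Scheme.IdealSheafData.comap_mono e.inv h
    beta_reduce at h2
    rwa [← Scheme.IdealSheafData.comap_comp, e.inv_hom_id, Scheme.IdealSheafData.comap_id] at h2

theorem section_mem {C T : Scheme.{u}} (p : C ⟶ T) [IsSeparated p] (σ : T ⟶ C) (hσ : σ ≫ p = 𝟙 T) :
    Mor2.IsFinLocFreeOfDeg 1 (σ.ker.subschemeι ≫ p) := by
  haveI : IsClosedImmersion σ := by
    haveI : IsClosedImmersion (σ ≫ p) := by rw [hσ]; infer_instance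
    exact IsClosedImmersion.of_comp σ p
  have he : σ.toImage ≫ σ.ker.subschemeι ≫ p = 𝟙 T := by
    rw [← Category.assoc]
    exact (congrArg (· ≫ p) σ.toImage_imageι).trans hσ
  haveI : IsIso (σ.toImage ≫ σ.ker.subschemeι ≫ p) := by rw [he]; infer_instance
  haveI : IsIso (σ.ker.subschemeι ≫ p) := IsIso.of_isIso_comp_left σ.toImage _
  exact ⟨⟨inferInstance, inferInstance, inferInstance⟩, fun y => by
    rw [Scheme.Hom.finrank_eq_one_of_isIso]; rfl⟩

theorem comap_section {C T T' : Scheme.{u}} (p : C ⟶ T) [IsSeparated p] (b : T' ⟶ T) (σ : T ⟶ C)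
    (hσ : σ ≫ p = 𝟙 T) (τ : T' ⟶ pullback p b) (hτ₁ : τ ≫ pullback.fst p b = b ≫ σ)
    (hτ₂ : τ ≫ pullback.snd p b = 𝟙 T') : σ.ker.comap (pullback.fst p b) = τ.ker := by
  haveI : IsClosedImmersion σ := by
    haveI : IsClosedImmersion (σ ≫ p) := by rw [hσ]; infer_instance
    exact IsClosedImmersion.of_comp σ p
  refine le_antisymm ?_ ?_
  · rw [← Scheme.IdealSheafData.le_map_iff_comap_le, Scheme.IdealSheafData.map_ker, hτ₁]
    exact Scheme.Hom.le_ker_comp _ _
  · let q := pullback.fst (pullback.fst p b) σ.ker.subschemeι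
    let w := pullback.snd (pullback.fst p b) σ.ker.subschemeι ≫ inv σ.toImage
    have h1 : q ≫ pullback.fst p b = w ≫ σ := by
      rw [pullback.condition, Category.assoc]
      exact congrArg _ ((IsIso.eq_inv_comp _).mpr σ.toImage_imageι)
    have h2 : w = q ≫ pullback.snd p b ≫ b := by
      have h := congrArg (· ≫ p) h1
      simp only [Category.assoc, hσ, Category.comp_id] at h
      rw [← h, pullback.condition]
    have hq : q = (q ≫ pullback.snd p b) ≫ τ := by
      apply pullback.hom_ext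
      · rw [Category.assoc, hτ₁, h1, h2]
        simp only [Category.assoc]
      · rw [Category.assoc, hτ₂, Category.comp_id]
    show _ ≤ q.ker
    rw [hq]
    exact Scheme.Hom.le_ker_comp _ _

theorem comap_mem {C S S' : Scheme.{u}} (f : C ⟶ S) (b : S' ⟶ S) {d : ℕ} {I : C.IdealSheafData}
    (h : Mor2.IsFinLocFreeOfDeg d (I.subschemeι ≫ f)) :
    Mor2.IsFinLocFreeOfDeg d ((I.comap (pullback.fst f b)).subschemeι ≫ pullback.snd f b) := by
  obtain ⟨⟨h1, h2, h3⟩, h4⟩ := h
  have hp : IsPullback ((I.comapIso (pullback.fst f b)).hom ≫ pullback.snd _ _)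
      ((I.comap (pullback.fst f b)).subschemeι ≫ pullback.snd f b) (I.subschemeι ≫ f) b := by
    refine IsPullback.paste_vert ?_ (IsPullback.of_hasPullback f b)
    exact (IsPullback.of_hasPullback (pullback.fst f b) I.subschemeι).flip.of_iso
      (I.comapIso (pullback.fst f b)).symm (Iso.refl _) (Iso.refl _) (Iso.refl _)
      (by simp [-Scheme.IdealSheafData.comapIso_hom_snd, -Scheme.IdealSheafData.comapIso_hom_snd_assoc])
      (by simp) (by simp) (by simp)
  exact ⟨⟨MorphismProperty.of_isPullback hp h1, MorphismProperty.of_isPullback hp h2,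
    MorphismProperty.of_isPullback hp h3⟩, fun y => by rw [Scheme.Hom.finrank_of_isPullback _ _ _ _ hp, h4]⟩

theorem exists_split (d : ℕ) : ∀ {C S : Scheme.{u}} (f : C ⟶ S) [SmoothOfRelativeDimension 1 f] [IsSeparated f]
    (I : C.IdealSheafData), Mor2.IsFinLocFreeOfDeg d (I.subschemeι ≫ f) →
    ∃ (S' : Scheme.{u}) (b : S' ⟶ S), Flat b ∧ Surjective b ∧ LocallyOfFinitePresentation b ∧
      ∃ σ : Fin d → (S' ⟶ pullback f b), (∀ i, σ i ≫ pullback.snd f b = 𝟙 S') ∧
        I.comap (pullback.fst f b) = ∏ i, (σ i).ker := by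
  induction d with
  | zero =>
    intro C S f _ _ I hD
    obtain ⟨⟨h1, h2, h3⟩, h4⟩ := hD
    refine ⟨S, 𝟙 S, inferInstance, inferInstance, inferInstance, Fin.elim0, fun i => i.elim0, ?_⟩
    have hE : IsEmpty I.subscheme := ⟨fun x => by
      have := Scheme.Hom.one_le_finrank_map (I.subschemeι ≫ f) x
      rw [h4] at this
      omega⟩
    have hI : I = ⊤ := by
      rw [← Scheme.IdealSheafData.ker_subschemeι I]
      exact (Scheme.Hom.ker_eq_top_iff_isEmpty _).mpr hE
    rw [hI, Fin.prod_univ_zero, Scheme.IdealSheafData.comap_top]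
    rfl
  | succ d ih =>
    intro C S f _ _ I hD
    obtain ⟨⟨h1, h2, h3⟩, h4⟩ := hD
    let g := I.subschemeι ≫ f
    haveI : Surjective g := (Scheme.Hom.one_le_finrank_iff_surjective _).mp fun y => by
      rw [h4]; exact Nat.le_add_left 1 d
    let σ₀ : I.subscheme ⟶ pullback f g := pullback.lift I.subschemeι (𝟙 _) (Category.id_comp _).symm
    have hσ₀ : σ₀ ≫ pullback.snd f g = 𝟙 _ := pullback.lift_snd _ _ _
    haveI : SmoothOfRelativeDimension 1 (pullback.snd f g) := by
      haveI : MorphismProperty.IsStableUnderBaseChange (@SmoothOfRelativeDimension.{u} 1) :=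
        smoothOfRelativeDimension_isStableUnderBaseChange 1
      exact (smoothOfRelativeDimension_isStableUnderBaseChange 1).of_isPullback
        (IsPullback.of_hasPullback f g) ‹SmoothOfRelativeDimension 1 f›
    have hle : I.comap (pullback.fst f g) ≤ σ₀.ker := by
      rw [← Scheme.IdealSheafData.le_map_iff_comap_le, Scheme.IdealSheafData.map_ker,
        show σ₀ ≫ pullback.fst f g = I.subschemeι from pullback.lift_fst _ _ _, Scheme.IdealSheafData.ker_subschemeι]
    obtain ⟨J, hJ, hJeq⟩ := finLocFreeOfDeg_diff (pullback.snd f g) _ _ hle 1 (d + 1)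
      (section_mem (pullback.snd f g) σ₀ hσ₀) (comap_mem f g ⟨⟨h1, h2, h3⟩, h4⟩)
    rw [Nat.add_sub_cancel] at hJ
    obtain ⟨S', b, hb1, hb2, hb3, τ, hτ, hτeq⟩ := ih (pullback.snd f g) J hJ
    let τ₀ : S' ⟶ pullback (pullback.snd f g) b := pullback.lift (b ≫ σ₀) (𝟙 _)
      (by rw [Category.assoc, hσ₀, Category.comp_id, Category.id_comp])
    let e := pullbackLeftPullbackSndIso f g b
    have he : pullback.fst f (b ≫ g) = e.inv ≫ pullback.fst _ _ ≫ pullback.fst f g := by
      rw [← pullbackLeftPullbackSndIso_hom_fst, Iso.inv_hom_id_assoc]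
    have hprod : I.comap (pullback.fst f (b ≫ g)) = ((τ₀ ≫ e.hom).ker) * ∏ i, (τ i ≫ e.hom).ker := by
      rw [he, Scheme.IdealSheafData.comap_comp, Scheme.IdealSheafData.comap_comp, hJeq, BlowUpLib.comap_mul,
        comap_section (pullback.snd f g) b σ₀ hσ₀ τ₀ (pullback.lift_fst _ _ _) (pullback.lift_snd _ _ _),
        hτeq, BlowUpLib.comap_mul, comap_inv_ker, comap_prod]
      simp only [comap_inv_ker]
    refine ⟨S', b ≫ g, inferInstance, inferInstance, inferInstance,
      (Fin.cons (τ₀ ≫ e.hom) (fun i => τ i ≫ e.hom) : Fin (d + 1) → (S' ⟶ pullback f (b ≫ g))),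
      fun i => ?_, ?_⟩
    · refine Fin.cases ?_ ?_ i
      swap
      · intro i
        rw [Fin.cons_succ, Category.assoc, pullbackLeftPullbackSndIso_hom_snd]
        exact hτ i
      rw [Fin.cons_zero, Category.assoc, pullbackLeftPullbackSndIso_hom_snd]
      exact pullback.lift_snd _ _ _
    · rw [hprod, Fin.prod_univ_succ]
      simp only [Fin.cons_zero, Fin.cons_succ]

end Groth.Agent.CurveDiv
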